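import Cfsg.Agent.R2.H22.Root
import Cfsg.Agent.R2.GEO.Five

/-!
# No root elements over extension fields commute with `A`; no totally singular subspaces (helper22)

* `Cfg.nr` : over a finite extension field;
* `Cfg.nr_closed` : over an algebraic extension field;
* `Cfg.no_ts` : no stable totally singular subspaces over an algebraic extension field (`p` odd).
-/

set_option autoImplicit false
set_option linter.unusedSectionVars false

namespace Cfsg.Agent.R2.H22.Root

open Cfsg Cfsg.Lie Module Matrix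
open Cfsg.Agent.ChevalleyStructure
open Cfsg.Agent.H184.GraphE6
open Cfsg.Agent.ChevalleyStructure.E6Min.Basic Cfsg.Agent.ChevalleyStructure.E6Min.Adjoint
open Cfsg.Agent.H163.E6 Cfsg.Agent.H65.E6Emb Cfsg.Agent.R2.H22.Norm Cfsg.Agent.H163.E6.Act
open Cfsg.Agent.H944.E6Tw Cfsg.Agent.H944.E6T
open Cfsg.Agent.R2.H9.E6
open Finset
open scoped Matrix

universe u v w

section steinberg

variable {F : Type u} [Field F] {E : Type v} [Field E]

theorem map_QU (i : F →+* E) : Matrix.GeneralLinearGroup.map i (QU F) = QU E := by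
  apply Units.ext
  show (QM F).map i = QM E
  unfold QM
  rw [Matrix.diagonal_map (map_zero i)]
  congr 1
  funext x
  exact map_intCast i _

theorem sE_emb (i : F →+* E) (f : F →+* F) (φ : E →+* E) (h : ∀ x, φ (i x) = i (f x)) (g : ↥(Zgrp F)) :
    sE φ (emb i g) = emb i (sE f g) := by
  apply Subtype.ext
  rw [coe_sE, coe_emb', coe_emb', coe_sE, sZ_apply, sZ_apply, map_mul, map_mul, map_QU, ← gU_map]
  congr 3
  apply Units.ext
  show (((g : GL I27 F) : Matrix I27 I27 F).map i).map φ = (((g : GL I27 F) : Matrix I27 I27 F).map f).map i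
  ext a b
  exact h _

theorem sE_twice (φ : E →+* E) (g : ↥(Zgrp E)) : sE φ (sE φ g) = emb (φ.comp φ) g := by
  apply Subtype.ext
  rw [coe_sE, coe_sE, coe_emb', sZ_apply, sZ_apply, map_mul, map_mul, gm_QU, gm_gU, gU_mul, gU_mul, gU_gU, gU_QU]
  calc QU E * (QU E * gm φ (gm φ (g : GL I27 E)) * QU E) * QU E =
      (QU E * QU E) * gm φ (gm φ (g : GL I27 E)) * (QU E * QU E) := by group
    _ = gm φ (gm φ (g : GL I27 E)) := by rw [QU_sq, one_mul, mul_one]
    _ = _ := by
      apply Units.ext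
      ext a b
      rfl

theorem emb_iter (s : E →+* E) (n : ℕ) (g : ↥(Zgrp E)) : (emb s)^[n] g = emb (s ^ n) g := by
  induction n with
  | zero =>
    rw [pow_zero]
    exact (emb_id g).symm
  | succ n ih =>
    rw [Function.iterate_succ_apply', ih, emb_emb]
    congr 2
    rw [pow_succ']
    rfl

end steinberg

/-! ### counting -/

section count

variable {F : Type u} [Field F] {E : Type v} [Field E]

theorem ncard_scalar {S : Set ↥(Zgrp E)} (i : F →+* E) (T : Finset F)
    (h : ∀ x ∈ S, ∃ c ∈ T, mt x = (i c) • 1) : S.ncard ≤ T.card := by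
  classical
  rw [← Set.ncard_coe_finset T]
  have hex : ∀ x : ↥(Zgrp E), ∃ c : F, x ∈ S → c ∈ T ∧ mt x = (i c) • 1 := by
    intro x
    by_cases hx : x ∈ S
    · obtain ⟨c, hc, hc'⟩ := h x hx
      exact ⟨c, fun _ => ⟨hc, hc'⟩⟩
    · exact ⟨0, fun h => absurd h hx⟩
  choose c hc using hex
  refine Set.ncard_le_ncard_of_injOn c (fun x hx => (hc x hx).1) ?_ (Set.toFinite _)
  intro x hx y hy hxy
  apply mt_inj
  rw [(hc x hx).2, (hc y hy).2, hxy]

theorem geom_le {r : ℕ} (hr : 2 ≤ r) (m : ℕ) : ∑ i ∈ range m, r ^ i + 1 ≤ r ^ m := by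
  induction m with
  | zero => simp
  | succ m ih =>
    rw [Finset.sum_range_succ, pow_succ]
    have h1 : r ^ m * 2 ≤ r ^ m * r := Nat.mul_le_mul_left _ hr
    omega

theorem geom_le' {r : ℕ} (hr : 4 ≤ r) (m : ℕ) : 3 * ∑ i ∈ range m, r ^ i + 1 ≤ r ^ m := by
  induction m with
  | zero => simp
  | succ m ih =>
    rw [Finset.sum_range_succ, pow_succ]
    have h1 : r ^ m * 4 ≤ r ^ m * r := Nat.mul_le_mul_left _ hr
    omega

/-- the cube roots of unity -/
noncomputable def cub (F : Type u) [Field F] [Fintype F] : Finset F := by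
  classical exact univ.filter fun c : F => c ^ 3 = 1

theorem mem_cub [Fintype F] {c : F} : c ∈ cub F ↔ c ^ 3 = 1 := by
  classical
  unfold cub
  rw [mem_filter]
  exact ⟨fun h => h.2, fun h => ⟨mem_univ _, h⟩⟩

theorem card_cub [Fintype F] : (cub F).card ≤ 3 := by
  classical
  have h1 : cub F ⊆ (Polynomial.nthRoots 3 (1 : F)).toFinset := by
    intro c hc
    rw [Multiset.mem_toFinset, Polynomial.mem_nthRoots (by norm_num)]
    exact mem_cub.1 hc
  exact (Finset.card_le_card h1).trans ((Multiset.toFinset_card_le _).trans (Polynomial.card_nthRoots 3 1))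

theorem card_cub_three [Fintype F] [CharP F 3] : (cub F).card ≤ 1 := by
  rw [Finset.card_le_one]
  have h1 : ∀ c : F, c ^ 3 = 1 → c = 1 := by
    intro c hc
    have h3 : (3 : F) = 0 := by
      have := CharP.cast_eq_zero F 3
      exact_mod_cast this
    have h2 : (c - 1) ^ 3 = 0 := by linear_combination hc - (c ^ 2 - c) * h3
    exact sub_eq_zero.1 (pow_eq_zero_iff (by norm_num) |>.1 h2)
  intro a ha b hb
  rw [h1 a (mem_cub.1 ha), h1 b (mem_cub.1 hb)]

theorem card_cub_two [Fintype F] (h2 : Fintype.card F = 2) : (cub F).card ≤ 1 := by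
  rw [Finset.card_le_one]
  have h1 : ∀ c : F, c ^ 3 = 1 → c = 1 := by
    intro c hc
    have h3 : c ^ 2 = c := by
      have := FiniteField.pow_card c
      rwa [h2] at this
    have h4 : c ^ 3 = c := by
      calc c ^ 3 = c ^ 2 * c := by ring
        _ = c * c := by rw [h3]
        _ = c ^ 2 := (sq c).symm
        _ = c := h3
    rw [← h4, hc]
  intro a ha b hb
  rw [h1 a (mem_cub.1 ha), h1 b (mem_cub.1 hb)]

end count

/-! ### the theorem over finite fields -/

section finite

variable {F : Type u} [Field F] [Fintype F] {K : Type w} [Field K] [Fintype K] {p a b : ℕ}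
  {Γ M : Subgroup ↥(Zgrp F)} {ψ : ProjectiveSpecialLinearGroup (Fin 2) K →* ↥(Zgrp F)}

/-- the two families; the exception -/
def Exc (F : Type u) [Field F] [Fintype F] (p b : ℕ) : Prop := p ^ b = 2 ∧ Fintype.card F = 4

theorem card_bound (h : Cfg p a b Γ M ψ) (hex : ¬ Exc F p b) (m : ℕ) :
    (cub F).card * ∑ i ∈ range m, (p ^ b) ^ i < (p ^ b) ^ m := by
  have hp := h.prime
  have h2 : 2 ≤ p ^ b := by
    calc 2 ≤ p := hp.two_le
      _ = p ^ 1 := (pow_one p).symm
      _ ≤ p ^ b := Nat.pow_le_pow_right hp.pos h.hb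
  rcases Nat.lt_or_ge (p ^ b) 4 with h4 | h4
  · have h5 : (cub F).card ≤ 1 := by
      rcases Nat.lt_or_ge (p ^ b) 3 with h3 | h3
      · have h6 : p ^ b = 2 := by omega
        refine card_cub_two ?_
        rcases h.fam with ⟨-, h7, -⟩ | ⟨h7, -⟩
        · rw [h7, h6]
        · exact absurd ⟨h6, by rw [h7, h6]; norm_num⟩ hex
      · have h6 : p ^ b = 3 := by omega
        have h7 : p = 3 := by
          have h8 : p ∣ 3 := by
            rw [← h6]
            exact dvd_pow_self p (by have := h.hb; omega)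
          exact (Nat.prime_dvd_prime_iff_eq hp Nat.prime_three).1 h8
        have h8 : CharP F 3 := h7 ▸ h.charF
        exact card_cub_three
    have h6 := geom_le h2 m
    have h7 := Nat.mul_le_mul_right (∑ i ∈ range m, (p ^ b) ^ i) h5
    omega
  · have h5 := card_cub (F := F)
    have h6 := geom_le' h4 m
    have h7 := Nat.mul_le_mul_right (∑ i ∈ range m, (p ^ b) ^ i) h5
    omega

/-- **no root elements commute with `A`**, over every finite extension field -/
theorem nr (h : Cfg p a b Γ M ψ) (hex : ¬ Exc F p b) {E : Type v} [Field E] [Finite E] (i : F →+* E)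
    {N : Matrix I27 I27 E} (hN : N * N = 0) (z : E → ↥(Zgrp E)) (hz : ∀ t, mt (z t) = 1 + t • N)
    (hc : ∀ t x, emb i (ψ x) * z t = z t * emb i (ψ x)) : N = 0 := by
  classical
  have hfE : Fintype E := Fintype.ofFinite E
  have hp := h.prime
  have hfp : Fact p.Prime := ⟨hp⟩
  have hcF := h.charF
  have hcE : CharP E p := charP_of_injective_ringHom i.injective p
  have h2 : 2 ≤ p ^ b := by
    calc 2 ≤ p := hp.two_le
      _ = p ^ 1 := (pow_one p).symm
      _ ≤ p ^ b := Nat.pow_le_pow_right hp.pos h.hb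
  obtain ⟨d, hd0, hd⟩ : ∃ d, 1 ≤ d ∧ Fintype.card E = Fintype.card F ^ d := by
    let _ := i.toAlgebra
    have hfin : Module.Finite F E := Module.Finite.of_finite
    exact ⟨Module.finrank F E, Module.finrank_pos, Module.card_eq_pow_finrank⟩
  let s : E →+* E := iterateFrobenius E p b
  have hs : ∀ x, s x = x ^ (p ^ b) := fun x => iterateFrobenius_def p b x
  have hspow : ∀ (n : ℕ) (x : E), (s ^ n) x = x ^ ((p ^ b) ^ n) := by
    intro n x
    induction n with
    | zero => rw [pow_zero, pow_zero, pow_one]; rfl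
    | succ n ih =>
      rw [pow_succ']
      show s ((s ^ n) x) = _
      rw [ih, hs, ← pow_mul, ← pow_succ]
  let C : Subgroup ↥(Zgrp E) := Subgroup.centralizer (Set.range fun x => emb i (ψ x))
  have hmem : ∀ y, y ∈ C ↔ ∀ x, emb i (ψ x) * y = y * emb i (ψ x) := by
    intro y
    rw [Subgroup.mem_centralizer_iff]
    constructor
    · intro h x
      exact h _ ⟨x, rfl⟩
    · rintro h _ ⟨x, rfl⟩
      exact h x
  have hzC : ∀ t, z t ∈ C := fun t => (hmem _).2 (hc t)
  have hb1 := card_bound h hex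
  have hscal : ∀ z0 : ↥(Zgrp F), z0 ∈ Γ → emb i z0 ∈ C → ∃ c ∈ cub F, mt (emb i z0) = (i c) • 1 := by
    intro z0 hz0 h1
    have h2 : ad F z0 = 1 := by
      refine h.set.cent z0 hz0 fun x => ?_
      apply emb_injective i
      rw [map_mul, map_mul]
      exact (hmem _).1 h1 x
    obtain ⟨c, hc3, hc⟩ := Cfsg.Agent.H65.E6Ext.ker_scalar h2
    refine ⟨c, mem_cub.2 hc3, ?_⟩
    show ((emb i z0 : GL I27 E) : Matrix I27 I27 E) = _
    rw [coe_emb, hc]
    ext j l
    rw [Matrix.map_apply, Matrix.smul_apply, Matrix.smul_apply, smul_eq_mul, smul_eq_mul, map_mul, Matrix.one_apply,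
      Matrix.one_apply, apply_ite i, map_one, map_zero]
  rcases h.fam with ⟨hΓ, hF, -⟩ | ⟨hF, f, hf, hqq, hΓ⟩
  · -- untwisted
    refine core C (emb s) ?_ d (p ^ b) (cub F).card hd0 h2 ?_ ?_ ?_ (emb_root s hs) hN z hz hzC
    · intro y hy
      rw [hmem] at hy ⊢
      intro x
      have h3 : emb s (emb i (ψ x)) = emb i (ψ x) := emb_frob i s (fun t => by rw [hs, hF]) _
      rw [← h3, ← map_mul, hy, map_mul]
    · intro x
      rw [emb_iter]
      have h3 : s ^ d = RingHom.id E := by
        ext y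
        rw [hspow, ← hF, ← hd, FiniteField.pow_card]
        rfl
      rw [h3, emb_id]
    · refine ncard_scalar i (cub F) ?_
      rintro x ⟨hxC, hx⟩
      obtain ⟨z0, rfl⟩ := Cfsg.Agent.H65.E6Full.exists_of_emb_eq_all i s (fun t => by rw [hs, hF]) x hx
      exact hscal z0 (by rw [hΓ]; trivial) hxC
    · rw [hd, hF]
      exact hb1 d
  · -- twisted
    have hs2 : ∀ x, (s.comp s) x = x ^ Fintype.card F := by
      intro x
      rw [hF, RingHom.comp_apply, hs, hs, ← pow_mul, sq]
    have hsi : ∀ x, s (i x) = i (f x) := fun x => by rw [hs, hf, map_pow]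
    refine core C (sE s) ?_ (2 * d) (p ^ b) (cub F).card (by omega) h2 ?_ ?_ ?_ (sE_root s hs) hN z hz hzC
    · intro y hy
      rw [hmem] at hy ⊢
      intro x
      have h3 : sE s (emb i (ψ x)) = emb i (ψ x) := by
        rw [sE_emb i f s hsi]
        have h4 : ψ x ∈ Γ := h.set.hle (h.set.le ⟨x, rfl⟩)
        rw [hΓ, mem_Gs] at h4
        rw [h4]
      rw [← h3, ← map_mul, hy, map_mul]
    · intro x
      rw [Function.iterate_mul]
      have h3 : (sE s)^[2] = emb (s.comp s) := by
        funext y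
        exact sE_twice s y
      rw [h3, emb_iter]
      have h4 : (s.comp s) ^ d = RingHom.id E := by
        have h5 : s.comp s = s ^ 2 := (sq s).symm
        ext y
        rw [h5, ← pow_mul, hspow, pow_mul, ← hF, ← hd, FiniteField.pow_card]
        rfl
      rw [h4, emb_id]
    · refine ncard_scalar i (cub F) ?_
      rintro x ⟨hxC, hx⟩
      have hx2 : emb (s.comp s) x = x := by rw [← sE_twice, hx, hx]
      obtain ⟨z0, rfl⟩ := Cfsg.Agent.H65.E6Full.exists_of_emb_eq_all i (s.comp s) hs2 x hx2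
      refine hscal z0 ?_ hxC
      rw [hΓ, mem_Gs]
      apply emb_injective i
      rw [← sE_emb i f s hsi, hx]
    · rw [hd, hF, ← pow_mul]
      exact hb1 (2 * d)

end finite

/-! ### the theorem over algebraic extension fields -/

section closed

theorem ts_of {k : Type u} [Field k] {W : Submodule k (I27 → k)} (hW : ∀ x ∈ W, Cfsg.Agent.H952.F4.sh x = 0) :
    TS W := by
  refine ⟨hW, fun x hx y hy => ?_⟩
  have h := Cfsg.Agent.H952.F4.Jord.sh_add x y
  rw [hW _ (W.add_mem hx hy), hW x hx, hW y hy] at h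
  simpa using h.symm

variable {F : Type u} [Field F] [Fintype F] {K : Type w} [Field K] [Fintype K] {p a b : ℕ}
  {Γ M : Subgroup ↥(Zgrp F)} {ψ : ProjectiveSpecialLinearGroup (Fin 2) K →* ↥(Zgrp F)}

/-- **no root elements commute with `A`**, over every algebraic extension field -/
theorem nr_closed (h : Cfg p a b Γ M ψ) (hex : ¬ Exc F p b) {k : Type v} [Field k] [Algebra F k]
    [Algebra.IsAlgebraic F k] {N : Matrix I27 I27 k} (hN : N * N = 0)
    (hz : ∀ t : k, ∃ z : ↥(Zgrp k), mt z = 1 + t • N)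
    (hc : ∀ x, mt (emb (algebraMap F k) (ψ x)) * N = N * mt (emb (algebraMap F k) (ψ x))) : N = 0 := by
  classical
  choose z hz using hz
  let S : Set k := Set.range fun q : I27 × I27 => N q.1 q.2
  have hS : S.Finite := Set.finite_range _
  let L : IntermediateField F k := IntermediateField.adjoin F S
  have hfd : FiniteDimensional F L := by
    have : Finite S := hS
    exact IntermediateField.finiteDimensional_adjoin fun x _ => (Algebra.IsAlgebraic.isAlgebraic x).isIntegral
  have hfin : Finite L := Module.finite_of_finite F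
  have hmem : ∀ i j, N i j ∈ L := fun i j => IntermediateField.subset_adjoin F S ⟨(i, j), rfl⟩
  let N0 : Matrix I27 I27 L := Matrix.of fun i j => ⟨N i j, hmem i j⟩
  let j : L →+* k := algebraMap L k
  have hj : N0.map j = N := by
    ext i l
    rfl
  have hN0 : N0 * N0 = 0 := by
    apply Matrix.map_injective j.injective
    show (N0 * N0).map j = (0 : Matrix I27 I27 L).map j
    rw [Matrix.map_mul, hj, hN, Matrix.map_zero j (map_zero j)]
  have hz0 : ∀ t : L, ∃ z0 : ↥(Zgrp L), emb j z0 = z (j t) ∧ mt z0 = 1 + t • N0 := by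
    intro t
    refine Cfsg.Agent.H65.E6Full.exists_of_map_all j (z (j t)) (1 + t • N0) ?_
    change mt (z (j t)) = _
    rw [hz, ← hj]
    ext i l
    simp only [Matrix.map_apply, Matrix.add_apply, Matrix.smul_apply, smul_eq_mul, map_add, map_mul,
      Matrix.one_apply, apply_ite j, map_one, map_zero]
  choose z0 hz0 hz0' using hz0
  have h0 : N0 = 0 := by
    refine nr h hex (algebraMap F L) hN0 z0 hz0' fun t x => ?_
    apply emb_injective j
    rw [map_mul, map_mul, hz0, emb_emb]
    have h1 : j.comp (algebraMap F L) = algebraMap F k := rfl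
    rw [h1]
    apply mt_inj
    rw [mt_mul, mt_mul, hz, mul_add, add_mul, mul_one, one_mul, mul_smul_comm, smul_mul_assoc, hc]
  rw [← hj, h0, Matrix.map_zero j (map_zero j)]

/-- **no stable totally singular subspaces of dimension 3 or 6** over algebraic extension fields, `p` odd -/
theorem no_ts_three (h : Cfg p a b Γ M ψ) (hp : p ≠ 2) {k : Type u} [Field k] [Algebra F k]
    [Algebra.IsAlgebraic F k] (ρ : Representation k ↥(Zgrp k) (I27 → k)) (hρ : ρ = V k ∨ ρ = V' k)
    {W : Submodule k (I27 → k)} (h3 : finrank k W = 3) (hW : ∀ x ∈ W, Cfsg.Agent.H952.F4.sh x = 0)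
    (hst : ∀ x, ∀ w ∈ W, ρ (emb (algebraMap F k) (ψ x)) w ∈ W) : False := by
  have hcF := h.charF
  have hck : CharP k p := charP_of_injective_ringHom (algebraMap F k).injective p
  have hcK := h.charK
  have h2 : (2 : K) ≠ 0 := by
    intro h0
    have h1 : ((2 : ℕ) : K) = 0 := by exact_mod_cast h0
    rw [CharP.cast_eq_zero_iff K p] at h1
    exact hp ((Nat.prime_dvd_prime_iff_eq h.prime Nat.prime_two).1 h1)
  have h2' : (2 : k) ≠ 0 := by
    intro h0
    have h1 : ((2 : ℕ) : k) = 0 := by exact_mod_cast h0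
    rw [CharP.cast_eq_zero_iff k p] at h1
    exact hp ((Nat.prime_dvd_prime_iff_eq h.prime Nat.prime_two).1 h1)
  have hex : ¬ Exc F p b := by
    rintro ⟨h1, -⟩
    have h3 : p ∣ 2 := by
      rw [← h1]
      exact dvd_pow_self p (by have := h.hb; omega)
    exact hp ((Nat.prime_dvd_prime_iff_eq h.prime Nat.prime_two).1 h3)
  obtain ⟨N, hN, hNc⟩ := Cfsg.Agent.H65.E6Root.root3 ρ hρ (B := ((emb (algebraMap F k)).comp ψ).range) (by
      rintro θ ⟨_, x, rfl⟩
      exact psl_no_two (by have := h.seven; omega) h2 h2' (θ.comp ((emb (algebraMap F k)).comp ψ).rangeRestrict) x)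
    h3 (ts_of hW) (by
      rintro _ ⟨x, rfl⟩ w hw
      exact hst x w hw)
  refine hN.ne (nr_closed h hex hN.sq (fun t => ?_) fun x => hNc _ ⟨x, rfl⟩)
  obtain ⟨g, hg, e⟩ := hN.mem t
  exact ⟨⟨g, hg⟩, e⟩

theorem no_ts_six (h : Cfg p a b Γ M ψ) (hex : ¬ Exc F p b) {k : Type u} [Field k] [Algebra F k]
    [Algebra.IsAlgebraic F k] (ρ : Representation k ↥(Zgrp k) (I27 → k)) (hρ : ρ = V k ∨ ρ = V' k)
    {W : Submodule k (I27 → k)} (h6 : finrank k W = 6) (hW : ∀ x ∈ W, Cfsg.Agent.H952.F4.sh x = 0)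
    (hst : ∀ x, ∀ w ∈ W, ρ (emb (algebraMap F k) (ψ x)) w ∈ W) : False := by
  obtain ⟨N, hN, hNc⟩ := Cfsg.Agent.H65.E6Root.root6 ρ hρ (B := ((emb (algebraMap F k)).comp ψ).range) (by
      have h1 := psl_perfect (K := K) (by have := h.seven; omega)
      rw [commutator_def] at h1
      rw [MonoidHom.range_eq_map, ← Subgroup.map_commutator, h1])
    h6 (ts_of hW) (by
      rintro _ ⟨x, rfl⟩ w hw
      exact hst x w hw)
  refine hN.ne (nr_closed h hex hN.sq (fun t => ?_) fun x => hNc _ ⟨x, rfl⟩)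
  obtain ⟨g, hg, e⟩ := hN.mem t
  exact ⟨⟨g, hg⟩, e⟩

/-- a totally singular 4-space gives a totally singular 6-space -/
theorem no_ts_four (h : Cfg p a b Γ M ψ) (hex : ¬ Exc F p b) {k : Type u} [Field k] [Algebra F k]
    [Algebra.IsAlgebraic F k] {ρ ρ' : Representation k ↥(Zgrp k) (I27 → k)} (hρ : Cfsg.Agent.R2.GEO.Pair ρ ρ')
    {W : Submodule k (I27 → k)} (h4 : finrank k W = 4) (hW : ∀ x ∈ W, Cfsg.Agent.H952.F4.sh x = 0)
    (hst : ∀ x, ∀ w ∈ W, ρ (emb (algebraMap F k) (ψ x)) w ∈ W) : False := by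
  obtain ⟨Y, n, n', hWY, H⟩ := Cfsg.Agent.R2.GEO.exists_hull_four (psl_perfect (K := K) (by have := h.seven; omega))
    ((emb (algebraMap F k)).comp ψ) hρ hst h4 hW
  exact no_ts_six h hex ρ (hρ.imp (fun h => h.1) fun h => h.1) H.dim H.ts H.stab

end closed

end Cfsg.Agent.R2.H22.Root
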