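import Cfsg.Agent.R2.H22.Ch

/-!
# L2 : `V_{2 p^i}` is not a submodule (helper22)
-/

set_option autoImplicit false
set_option linter.unusedSectionVars false
set_option linter.unusedSimpArgs false

namespace Cfsg.Agent.R2.H22.Loc

open Matrix Cfsg.Agent.H943.SL2Rel Cfsg.Agent.H943.SL2Mod Cfsg.Agent.H943.RepAdd
open Cfsg.Lie Cfsg.Agent.R2.H28.SL2
open Cfsg.Agent.ChevalleyStructure Cfsg.Agent.ChevalleyStructure.E6Form.Cubic
  Cfsg.Agent.ChevalleyStructure.E6Form.Table
open Cfsg.Agent.ChevalleyStructure.E6Min.Basic (Zgrp)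
open Cfsg.Agent.H952.F4 (sh cr tf)
open Cfsg.Agent.H952.F4.Jord
open Cfsg.Agent.H163.E6 (V V')
open Cfsg.Agent.R2.GEO (Pair crB crB_apply tfB tfB_apply)

universe u v w

attribute [local irreducible] Cfsg.Agent.H952.F4.cr Cfsg.Agent.H952.F4.sh Cfsg.Agent.H952.F4.tf

variable {k : Type u} [Field k] [DecidableEq k] [IsAlgClosed k] {K : Type w} [Field K] [Fintype K] [DecidableEq K]
  {ι : K →+* k} {p a : ℕ} [Fact p.Prime] [CharP k p] [CharP K p]
  {ψ : SpecialLinearGroup (Fin 2) K →* ↥(Zgrp k)} {ρ ρ' : Representation k ↥(Zgrp k) (I27 → k)}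

section two

variable {i : ℕ} {v : ℕ → I27 → k}

theorem two_u (c : Ch ι p (Rr ρ ψ) 2 i v) (t : K) :
    ρ (ψ (u t)) (v 0) = v 0 + (2 * ι t ^ p ^ i) • v 1 + ((ι t ^ p ^ i) ^ 2) • v 2 ∧
    ρ (ψ (u t)) (v 1) = v 1 + (ι t ^ p ^ i) • v 2 ∧ ρ (ψ (u t)) (v 2) = v 2 := by
  have h0 := c.u 0 (by norm_num) t
  have h1 := c.u 1 (by norm_num) t
  have h2 := c.u 2 (by norm_num) t
  simp only [Finset.sum_range_succ, Finset.sum_range_zero, Nat.choose, Rr_apply] at h0 h1 h2
  refine ⟨?_, ?_, ?_⟩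
  · rw [h0]
    norm_num
  · rw [h1]
    norm_num
  · rw [h2]
    norm_num

theorem two_w (c : Ch ι p (Rr ρ ψ) 2 i v) :
    ρ (ψ w) (v 0) = v 2 ∧ ρ (ψ w) (v 1) = -v 1 ∧ ρ (ψ w) (v 2) = v 0 := by
  have h0 := c.w 0 (by norm_num)
  have h1 := c.w 1 (by norm_num)
  have h2 := c.w 2 (by norm_num)
  rw [Rr_apply] at h0 h1 h2
  refine ⟨?_, ?_, ?_⟩
  · rw [h0]
    norm_num
  · rw [h1]
    norm_num
  · rw [h2]
    norm_num

theorem two_h (c : Ch ι p (Rr ρ ψ) 2 i v) (b : Kˣ) :
    ρ (ψ (h b)) (v 0) = (((ι b ^ p ^ i)⁻¹) ^ 2) • v 0 ∧ ρ (ψ (h b)) (v 1) = v 1 ∧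
      ρ (ψ (h b)) (v 2) = ((ι b ^ p ^ i) ^ 2) • v 2 := by
  have h0 := c.h 0 (by norm_num) b
  have h1 := c.h 1 (by norm_num) b
  have h2 := c.h 2 (by norm_num) b
  rw [Rr_apply] at h0 h1 h2
  have hb : (ι (b : K) ^ p ^ i) ≠ 0 := pow_ne_zero _ ((map_ne_zero ι).2 b.ne_zero)
  refine ⟨?_, ?_, ?_⟩
  · rw [h0]
    norm_num
  · rw [h1]
    norm_num
  · rw [h2]
    norm_num

/-- the fixed vector of the symmetric square -/
theorem two_fix (f : Fra p a ψ ρ ρ') (c : Ch ι p (Rr ρ ψ) 2 i v) : cr (v 0) (v 2) = cr (v 1) (v 1) := by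
  have hb : ∀ b : Kˣ, (ι (b : K) ^ p ^ i) ≠ 0 := fun b => pow_ne_zero _ ((map_ne_zero ι).2 b.ne_zero)
  have h1 : cr (v 0) (v 2) - cr (v 1) (v 1) = 0 := by
    refine fix_zero f.swap (fun t => ?_) (fun b => ?_) ?_
    · obtain ⟨h0, h1, h2⟩ := two_u c t
      rw [map_sub, ← pair_cr f.pair, ← pair_cr f.pair, h0, h1, h2]
      simp only [cr_add_left, cr_add_right, cr_smul_left, cr_smul_right]
      rw [cr_comm (v 2) (v 1)]
      module
    · obtain ⟨h0, h1, h2⟩ := two_h c b
      rw [map_sub, ← pair_cr f.pair, ← pair_cr f.pair, h0, h1, h2, cr_smul_left, cr_smul_right, smul_smul, ← mul_pow,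
        inv_mul_cancel₀ (hb b), one_pow, one_smul]
    · obtain ⟨h0, h1, h2⟩ := two_w c
      rw [map_sub, ← pair_cr f.pair, ← pair_cr f.pair, h0, h1, h2]
      rw [← neg_one_smul k (v 1), cr_smul_left, cr_smul_right, cr_comm (v 2) (v 0)]
      module
  exact sub_eq_zero.1 h1

/-- invariance of the trilinear form -/
theorem tri_inv (f : Fra p a ψ ρ ρ') (g : SpecialLinearGroup (Fin 2) K) (x y z : I27 → k) :
    tf (cr (ρ (ψ g) x) (ρ (ψ g) y)) (ρ (ψ g) z) = tf (cr x y) z := by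
  rw [pair_cr f.pair, pair_tf f.pair.swap]

omit [DecidableEq k] [IsAlgClosed k] [DecidableEq K] in
include ι in
/-- a unit with `b ^ m ≠ 1` -/
theorem exists_unit {m : ℕ} (hm : 0 < m) (hK : m < Fintype.card K - 1) (i : ℕ) : ∃ b : Kˣ, (ι (b : K) ^ p ^ i) ^ m ≠ 1 := by
  classical
  by_contra hcon
  push Not at hcon
  have h1 : ∀ b : Kˣ, b ^ m = 1 := by
    intro b
    have h2 := hcon b
    rw [← map_pow, ← map_pow, ← map_one ι] at h2
    have h3 := ι.injective h2
    rw [← pow_mul, mul_comm, pow_mul] at h3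
    have h4 : iterateFrobenius K p i ((b : K) ^ m) = iterateFrobenius K p i 1 := by
      rw [iterateFrobenius_def, iterateFrobenius_def, h3, one_pow]
    have h5 := (iterateFrobenius K p i).injective h4
    apply Units.ext
    rw [Units.val_pow_eq_pow_val, h5, Units.val_one]
  have h2 := IsCyclic.card_pow_eq_one_le (α := Kˣ) hm
  rw [Finset.filter_true_of_mem (fun b _ => h1 b), Finset.card_univ, Fintype.card_units] at h2
  omega

/-- the trilinear form vanishes on `V_2` -/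
theorem two_tri (f : Fra p a ψ ρ ρ') (c : Ch ι p (Rr ρ ψ) 2 i v) (h7 : 7 ≤ Fintype.card K) :
    ∀ x ∈ Set.range v, ∀ y ∈ Set.range v, ∀ z ∈ Set.range v, tf (cr x y) z = 0 := by
  have h2 : (2 : k) ≠ 0 := two_ne_zero' (ι := ι) f.odd
  have hsym : ∀ x y z : I27 → k, tf (cr x y) z = tf (cr y x) z := fun x y z => by rw [cr_comm]
  have hsym' : ∀ x y z : I27 → k, tf (cr x y) z = tf (cr x z) y := fun x y z => by rw [tf_cr, cr_comm y z, ← tf_cr]
  have hfix := two_fix f c
  have e111 : tf (cr (v 1) (v 1)) (v 1) = 0 := by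
    have h := tri_inv f w (v 1) (v 1) (v 1)
    rw [(two_w c).2.1] at h
    rw [← neg_one_smul k (v 1), cr_smul_left, cr_smul_right, tf_smul_left, tf_smul_left, tf_smul_right] at h
    have h3 : 2 * tf (cr (v 1) (v 1)) (v 1) = 0 := by linear_combination -h
    exact (mul_eq_zero.1 h3).resolve_left h2
  obtain ⟨b, hb⟩ := exists_unit (ι := ι) (p := p) (m := 2) (by norm_num) (by omega) i
  obtain ⟨b', hb'⟩ := exists_unit (ι := ι) (p := p) (m := 4) (by norm_num) (by omega) i
  have hne : ∀ b : Kˣ, (ι (b : K) ^ p ^ i) ≠ 0 := fun b => pow_ne_zero _ ((map_ne_zero ι).2 b.ne_zero)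
  have e112 : tf (cr (v 1) (v 1)) (v 2) = 0 := by
    have h := tri_inv f (h b) (v 1) (v 1) (v 2)
    rw [(two_h c b).2.1, (two_h c b).2.2, tf_smul_right] at h
    have h3 : ((ι (b : K) ^ p ^ i) ^ 2 - 1) * tf (cr (v 1) (v 1)) (v 2) = 0 := by linear_combination h
    exact (mul_eq_zero.1 h3).resolve_left (sub_ne_zero.2 hb)
  have e122 : tf (cr (v 1) (v 2)) (v 2) = 0 := by
    have h := tri_inv f (h b') (v 1) (v 2) (v 2)
    rw [(two_h c b').2.1, (two_h c b').2.2, cr_smul_right, tf_smul_right, tf_smul_left] at h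
    have h3 : ((ι (b' : K) ^ p ^ i) ^ 4 - 1) * tf (cr (v 1) (v 2)) (v 2) = 0 := by linear_combination h
    exact (mul_eq_zero.1 h3).resolve_left (sub_ne_zero.2 hb')
  have e110 : tf (cr (v 1) (v 1)) (v 0) = 0 := by
    have h := tri_inv f w (v 1) (v 1) (v 2)
    rw [(two_w c).2.1, (two_w c).2.2, e112] at h
    rw [← neg_one_smul k (v 1), cr_smul_left, cr_smul_right, tf_smul_left, tf_smul_left] at h
    linear_combination h
  have e100 : tf (cr (v 1) (v 0)) (v 0) = 0 := by
    have h := tri_inv f w (v 1) (v 2) (v 2)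
    rw [(two_w c).2.1, (two_w c).2.2, e122] at h
    rw [← neg_one_smul k (v 1), cr_smul_left, tf_smul_left] at h
    linear_combination -h
  have c10 := cr_comm (v 1) (v 0)
  have c20 := cr_comm (v 2) (v 0)
  have c21 := cr_comm (v 2) (v 1)
  have r10 : ∀ x, tf (cr x (v 1)) (v 0) = tf (cr x (v 0)) (v 1) := fun x => hsym' x _ _
  have r20 : ∀ x, tf (cr x (v 2)) (v 0) = tf (cr x (v 0)) (v 2) := fun x => hsym' x _ _
  have r21 : ∀ x, tf (cr x (v 2)) (v 1) = tf (cr x (v 1)) (v 2) := fun x => hsym' x _ _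
  have e02 : ∀ z, tf (cr (v 0) (v 2)) z = tf (cr (v 1) (v 1)) z := fun z => by rw [hfix]
  have f001 : tf (cr (v 0) (v 0)) (v 1) = 0 := by rw [← r10, ← c10]; exact e100
  have f011 : tf (cr (v 0) (v 1)) (v 1) = 0 := by rw [← c10, ← r10]; exact e110
  have f012 : tf (cr (v 0) (v 1)) (v 2) = 0 := by rw [← r21, e02]; exact e111
  have f002 : tf (cr (v 0) (v 0)) (v 2) = 0 := by rw [← r20, e02]; exact e110
  have f022 : tf (cr (v 0) (v 2)) (v 2) = 0 := by rw [e02]; exact e112
  have e222 : tf (cr (v 2) (v 2)) (v 2) = 0 := by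
    have h := tri_inv f (u 1) (v 0) (v 0) (v 0)
    rw [(two_u c 1).1] at h
    simp only [map_one, one_pow, one_smul, mul_one, cr_add_left, cr_add_right, cr_smul_left, cr_smul_right, tf_add_left,
      tf_add_right, tf_smul_left, tf_smul_right, c10, c20, c21, r10, r20, r21, f001, f011, f012, f002, f022, e111, e112,
      e122, mul_zero, add_zero, zero_add] at h
    simpa using h
  have e000 : tf (cr (v 0) (v 0)) (v 0) = 0 := by
    have h := tri_inv f w (v 2) (v 2) (v 2)
    rw [(two_w c).2.2, e222] at h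
    exact h
  have hz : ∀ s, 2 < s → v s = 0 := c.zero
  rintro _ ⟨x, rfl⟩ _ ⟨y, rfl⟩ _ ⟨z, rfl⟩
  rcases lt_or_ge 2 x with hx | hx
  · rw [hz x hx, cr_zero_left, tf_zero_left]
  rcases lt_or_ge 2 y with hy | hy
  · rw [hz y hy, cr_zero_right, tf_zero_left]
  rcases lt_or_ge 2 z with hz' | hz'
  · rw [hz z hz', tf_zero_right]
  interval_cases x <;> interval_cases y <;> interval_cases z <;>
    simp only [c10, c20, c21, r10, r20, r21, f001, f011, f012, f002, f022, e111, e112, e122, e222, e000]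

/-- **L2** -/
theorem not_inSoc_two (f : Fra p a ψ ρ ρ') (h5 : 5 ≤ p) (h7 : 7 ≤ Fintype.card K) (nts : Nts ψ ρ) (nts' : Nts ψ ρ')
    (i : ℕ) : ¬ InSoc ι p (Rr ρ ψ) (2 * p ^ i) := by
  intro h
  obtain ⟨v, c, hv⟩ := exists_ch (by omega) h
  have h2 : (2 : k) ≠ 0 := two_ne_zero' (ι := ι) f.odd
  have h3 : (3 : k) ≠ 0 := by
    intro h0
    have h1 : ((3 : ℕ) : k) = 0 := by exact_mod_cast h0
    rw [CharP.cast_eq_zero_iff k p] at h1
    have := (Nat.prime_dvd_prime_iff_eq (Fact.out : p.Prime) Nat.prime_three).1 h1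
    omega
  have htri := two_tri f c h7
  have hfix := two_fix f c
  have L : ∀ x y z t : ℕ, cr (cr (v x) (v y)) (cr (v z) (v t)) + cr (cr (v x) (v z)) (cr (v y) (v t)) +
      cr (cr (v x) (v t)) (cr (v y) (v z)) = 0 := by
    intro x y z t
    rw [cr4, htri _ ⟨x, rfl⟩ _ ⟨y, rfl⟩ _ ⟨z, rfl⟩, htri _ ⟨x, rfl⟩ _ ⟨y, rfl⟩ _ ⟨t, rfl⟩,
      htri _ ⟨x, rfl⟩ _ ⟨z, rfl⟩ _ ⟨t, rfl⟩, htri _ ⟨y, rfl⟩ _ ⟨z, rfl⟩ _ ⟨t, rfl⟩]
    simp
  refine hv 0 (by norm_num) (sq_bot' (T := {cr (v 0) (v 0), cr (v 0) (v 1), cr (v 1) (v 1), cr (v 1) (v 2), cr (v 2) (v 2)})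
    f h2 nts nts' c.stab ?_ ?_ (v 0) ⟨0, rfl⟩)
  · have hz : ∀ s, 2 < s → v s = 0 := c.zero
    rintro _ ⟨x, rfl⟩ _ ⟨y, rfl⟩
    rcases lt_or_ge 2 x with hx | hx
    · rw [hz x hx, cr_zero_left]
      exact Submodule.zero_mem _
    rcases lt_or_ge 2 y with hy | hy
    · rw [hz y hy, cr_zero_right]
      exact Submodule.zero_mem _
    apply Submodule.subset_span
    interval_cases x <;> interval_cases y <;>
      simp [cr_comm (v 1) (v 0), cr_comm (v 2) (v 0), cr_comm (v 2) (v 1), hfix]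
  · have s3 : ∀ x : I27 → k, (3 : k) • x = 0 → x = 0 := fun x hx => (smul_eq_zero.1 hx).resolve_left h3
    have s2 : ∀ x : I27 → k, (2 : k) • x = 0 → x = 0 := fun x hx => (smul_eq_zero.1 hx).resolve_left h2
    have c10 := cr_comm (v 1) (v 0)
    have c20 := cr_comm (v 2) (v 0)
    have c21 := cr_comm (v 2) (v 1)
    have l0000 := L 0 0 0 0
    have l0001 := L 0 0 0 1
    have l0002 := L 0 0 0 2
    have l0011 := L 0 0 1 1
    have l0012 := L 0 0 1 2
    have l0111 := L 0 1 1 1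
    have l0022 := L 0 0 2 2
    have l0112 := L 0 1 1 2
    have l1111 := L 1 1 1 1
    have l0122 := L 0 1 2 2
    have l1112 := L 1 1 1 2
    have l0222 := L 0 2 2 2
    have l1122 := L 1 1 2 2
    have l1222 := L 1 2 2 2
    have l2222 := L 2 2 2 2
    rw [hfix] at *
    generalize cr (v 0) (v 0) = A at *
    generalize cr (v 0) (v 1) = B at *
    generalize cr (v 1) (v 1) = D at *
    generalize cr (v 1) (v 2) = E at *
    generalize cr (v 2) (v 2) = G at *
    simp only [cr_comm B A, cr_comm D A, cr_comm E A, cr_comm G A, cr_comm D B, cr_comm E B, cr_comm G B, cr_comm E D,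
      cr_comm G D, cr_comm G E] at l0000 l0001 l0002 l0011 l0012 l0111 l0022 l0112 l1111 l0122 l1112 l0222 l1122 l1222 l2222
    have AA : cr A A = 0 := s3 _ (by linear_combination (norm := module) l0000)
    have AB : cr A B = 0 := s3 _ (by linear_combination (norm := module) l0001)
    have AD : cr A D = 0 := s3 _ (by linear_combination (norm := module) l0002)
    have BB : cr B B = 0 := s2 _ (by linear_combination (norm := module) l0011 - AD)
    have BD : cr B D = 0 := s3 _ (by linear_combination (norm := module) l0111)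
    have AE : cr A E = 0 := by linear_combination (norm := module) l0012 - (2 : k) • BD
    have DD : cr D D = 0 := s3 _ (by linear_combination (norm := module) l1111)
    have AG : cr A G = 0 := by linear_combination (norm := module) l0022 - (2 : k) • DD
    have BE : cr B E = 0 := s2 _ (by linear_combination (norm := module) l0112 - DD)
    have DE : cr D E = 0 := s3 _ (by linear_combination (norm := module) l1112)
    have BG : cr B G = 0 := by linear_combination (norm := module) l0122 - (2 : k) • DE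
    have DG : cr D G = 0 := s3 _ (by linear_combination (norm := module) l0222)
    have EE : cr E E = 0 := s2 _ (by linear_combination (norm := module) l1122 - DG)
    have EG : cr E G = 0 := s3 _ (by linear_combination (norm := module) l1222)
    have GG : cr G G = 0 := s3 _ (by linear_combination (norm := module) l2222)
    have BA : cr B A = 0 := by rw [cr_comm, AB]
    have DA : cr D A = 0 := by rw [cr_comm, AD]
    have EA : cr E A = 0 := by rw [cr_comm, AE]
    have GA : cr G A = 0 := by rw [cr_comm, AG]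
    have DB : cr D B = 0 := by rw [cr_comm, BD]
    have EB : cr E B = 0 := by rw [cr_comm, BE]
    have GB : cr G B = 0 := by rw [cr_comm, BG]
    have ED : cr E D = 0 := by rw [cr_comm, DE]
    have GD : cr G D = 0 := by rw [cr_comm, DG]
    have GE : cr G E = 0 := by rw [cr_comm, EG]
    intro y hy y' hy'
    simp only [Set.mem_insert_iff, Set.mem_singleton_iff] at hy hy'
    rcases hy with rfl | rfl | rfl | rfl | rfl <;> rcases hy' with rfl | rfl | rfl | rfl | rfl <;> assumption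

end two

end Cfsg.Agent.R2.H22.Loc
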