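import Cfsg.Agent.R2.H22.Q7b
import Cfsg.Agent.R2.H22.L2

/-!
# `q = 7` (helper22)

`patA`, `patB` : the two patterns; `q7_false`.
-/

set_option autoImplicit false
set_option linter.unusedSectionVars false

namespace Cfsg.Agent.R2.H22.Q7

open Matrix Cfsg.Agent.H943.SL2Rel Cfsg.Agent.H943.SL2Mod Cfsg.Agent.H943.RepAdd
open Cfsg.Agent.R2.H28.SL2
open Cfsg.Agent.H179.SLC (fx mem_fx)

universe u v w

variable {k : Type u} [Field k] [DecidableEq k] [IsAlgClosed k] {F : Type w} [Field F] [Fintype F] [DecidableEq F]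
  (ι : F →+* k) [Fact (Nat.Prime 7)] [CharP k 7] [CharP F 7] (hF : Fintype.card F = 7)

variable {V : Type v} [AddCommGroup V] [Module k V] [FiniteDimensional k V]
  {ρ : Representation k (SpecialLinearGroup (Fin 2) F) V}

/-- two independent submodules -/
theorem exists_two {b e : ℕ} (H : ∀ x ∈ Ew ι ρ e, x ≠ 0 → ∃ (X : Submodule k V) (hX : ∀ g, ∀ y ∈ X, ρ g y ∈ X),
      IsV ι 7 (subRep ρ X hX) b ∧ x ∈ X) (h2 : 2 ≤ Module.finrank k (Ew ι ρ e)) :
    ∃ (X Y : Submodule k V) (hX : ∀ g, ∀ y ∈ X, ρ g y ∈ X) (hY : ∀ g, ∀ y ∈ Y, ρ g y ∈ Y),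
      IsV ι 7 (subRep ρ X hX) b ∧ IsV ι 7 (subRep ρ Y hY) b ∧ X ⊓ Y = ⊥ := by
  have h0 : Ew ι ρ e ≠ ⊥ := by
    intro h0
    rw [h0, finrank_bot] at h2
    omega
  obtain ⟨x, hx, hx0⟩ := Submodule.exists_mem_ne_zero_of_ne_bot h0
  obtain ⟨y, hy, hyx⟩ : ∃ y ∈ Ew ι ρ e, y ∉ Submodule.span k {x} := by
    by_contra hc
    have h3 : Ew ι ρ e ≤ Submodule.span k {x} := by
      intro y hy
      by_contra h4
      exact hc ⟨y, hy, h4⟩
    have h4 := Submodule.finrank_mono h3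
    have h5 : Module.finrank k (Submodule.span k {x}) ≤ 1 := (finrank_span_le_card _).trans (by simp)
    omega
  have hy0 : y ≠ 0 := by
    rintro rfl
    exact hyx (Submodule.zero_mem _)
  obtain ⟨X, hX, hXb, hxX⟩ := H x hx hx0
  obtain ⟨Y, hY, hYb, hyY⟩ := H y hy hy0
  refine ⟨X, Y, hX, hY, hXb, hYb, ?_⟩
  rcases IsV.inf_or_le ι 7 hXb hY with h | h
  · exact h
  · exfalso
    obtain ⟨m, hm0, -, -, -, hm⟩ := IsV.hw ι 7 hYb
    obtain ⟨c, hc⟩ := hm ⟨x, h hxX⟩ fun t => Subtype.ext (hx.1 t)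
    obtain ⟨d, hd⟩ := hm ⟨y, hyY⟩ fun t => Subtype.ext (hy.1 t)
    have hc' : x = c • (m : V) := congrArg Subtype.val hc
    have hd' : y = d • (m : V) := congrArg Subtype.val hd
    have hc0 : c ≠ 0 := by
      rintro rfl
      rw [zero_smul] at hc'
      exact hx0 hc'
    apply hyx
    rw [Submodule.mem_span_singleton]
    exact ⟨d * c⁻¹, by rw [hc', hd', smul_smul, mul_assoc, inv_mul_cancel₀ hc0, mul_one]⟩

/-- the image in the quotient by a disjoint submodule -/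
theorem isV_map {X Y : Submodule k V} {hX : ∀ g, ∀ y ∈ X, ρ g y ∈ X} {hY : ∀ g, ∀ y ∈ Y, ρ g y ∈ Y} {b : ℕ}
    (hb : IsV ι 7 (subRep ρ Y hY) b) (h : X ⊓ Y = ⊥) :
    ∃ hZ : ∀ g, ∀ y ∈ Y.map X.mkQ, quotRep ρ X hX g y ∈ Y.map X.mkQ,
      IsV ι 7 (subRep (quotRep ρ X hX) (Y.map X.mkQ) hZ) b := by
  have hZ : ∀ g, ∀ y ∈ Y.map X.mkQ, quotRep ρ X hX g y ∈ Y.map X.mkQ := by
    rintro g _ ⟨y, hy, rfl⟩
    exact ⟨_, hY g y hy, rfl⟩
  refine ⟨hZ, ?_⟩
  let f : Y →ₗ[k] Y.map X.mkQ := LinearMap.codRestrict _ (X.mkQ ∘ₗ Y.subtype) fun y => ⟨y, y.2, rfl⟩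
  have hi : Function.Injective f := by
    rw [← LinearMap.ker_eq_bot, LinearMap.ker_eq_bot']
    intro y hy
    have h1 : X.mkQ (y : V) = 0 := congrArg Subtype.val hy
    have h2 : (y : V) ∈ X ⊓ Y := ⟨(Submodule.Quotient.mk_eq_zero _).1 h1, y.2⟩
    rw [h, Submodule.mem_bot] at h2
    exact Subtype.ext h2
  exact IsV.iso ι 7 (LinearEquiv.ofBijective f ⟨hi, by
    rintro ⟨_, y, hy, rfl⟩
    exact ⟨⟨y, hy⟩, rfl⟩⟩) (fun g y => Subtype.ext rfl) hb

/-- two composition factors -/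
theorem two_le_count {X Y : Submodule k V} {hX : ∀ g, ∀ y ∈ X, ρ g y ∈ X} {hY : ∀ g, ∀ y ∈ Y, ρ g y ∈ Y} {b : ℕ}
    (hXb : IsV ι 7 (subRep ρ X hX) b) (hYb : IsV ι 7 (subRep ρ Y hY) b) (h : X ⊓ Y = ⊥) :
    2 ≤ (cf (Sy.{u, v, w} ι 7) ρ).count b := by
  obtain ⟨hZ, hZb⟩ := isV_map ι (hX := hX) hYb h
  have h1 : InSoc ι 7 (quotRep ρ X hX) b := ⟨_, hZ, hZb⟩
  have h2 := Multiset.one_le_count_iff_mem.2 h1.mem_cf
  rw [cf_add (Sy.{u, v, w} ι 7) ρ X hX, cf_irr (Sy.{u, v, w} ι 7) hXb, Multiset.count_add, Multiset.count_singleton_self]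
  omega

variable {V' : Type v} [AddCommGroup V'] [Module k V']
    [FiniteDimensional k V'] {ρ' : Representation k (SpecialLinearGroup (Fin 2) F) V'} {P : V →ₗ[k] V' →ₗ[k] k}

include hF in
/-- **the pattern `0, 0, 2, 4, 4, 4, 6`** -/
theorem patB (D : Dul ρ ρ' P) (fix : ∀ x, (∀ g, ρ g x = x) → x = 0) (fix' : ∀ x, (∀ g, ρ' g x = x) → x = 0)
    (hcf : cf (Sy.{u, v, w} ι 7) ρ = {0, 0, 2, 4, 4, 4, 6}) (hsoc' : ∀ b, InSoc ι 7 ρ' b → b = 4 ∨ b = 6) : False := by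
  have hcf' : cf (Sy.{u, v, w} ι 7) ρ' = {0, 0, 2, 4, 4, 4, 6} := by rw [cf_dual ι 7 D, hcf]
  have e1 : Module.finrank k (Ew ι ρ' 0) ≤ 1 := by
    by_contra hc
    obtain ⟨X, Y, hX, hY, hXb, hYb, h⟩ := exists_two ι (b := 6) (e := 0) (fun x hx hx0 => six_soc ι hF fix' hx hx0) (by omega)
    have h1 := two_le_count ι hXb hYb h
    rw [hcf'] at h1
    have h2 : Multiset.count 6 ({0, 0, 2, 4, 4, 4, 6} : Multiset ℕ) = 1 := by decide
    omega
  have e2 : Module.finrank k (Ew ι ρ' 2) ≤ 1 := by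
    refine (finrank_Ew_le ι 7 ρ' 2).trans ?_
    rw [hcf', hF]
    decide
  have e3 := finrank_uf_le ι hF (ρ := ρ') (by
    rw [hcf']
    decide)
  have e4 := finrank_le_uf hF (ρ := ρ')
  have e5 : Module.finrank k V' = 27 := by
    rw [finrank_cf ι 7 _ V' ρ' le_rfl, hcf']
    simp only [Multiset.insert_eq_cons, Multiset.map_cons, Multiset.sum_cons, Multiset.map_singleton,
      Multiset.sum_singleton]
    rw [card_Bf_small (by norm_num), card_Bf_small (by norm_num), card_Bf_small (by norm_num), card_Bf_small (by norm_num)]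
    norm_num
  obtain ⟨X, Y, hX, hY, hXb, hYb, hXY⟩ := exists_two ι (b := 4) (e := 4)
    (fun x hx hx0 => four_soc ι hF hsoc' hx hx0) (by omega)
  -- the dual submodules
  obtain ⟨B₁, D₁, -⟩ := D.flip.quot hX
  obtain ⟨hZ, hZb⟩ := isV_map ι (hX := hX) hYb hXY
  obtain ⟨B₂, D₂, -⟩ := D₁.quot hZ
  have hW := D.flip.orth_inv hX
  have hW₂ := D₁.orth_inv hZ
  have c1 : cf (Sy.{u, v, w} ι 7) ρ' = {4} + ({4} + cf (Sy.{u, v, w} ι 7) (subRep (subRep ρ (orth P.flip X) hW) (orth B₁ (Y.map X.mkQ)) hW₂)) := by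
    rw [cf_add (Sy.{u, v, w} ι 7) ρ' X hX, cf_irr (Sy.{u, v, w} ι 7) hXb,
      cf_add (Sy.{u, v, w} ι 7) (quotRep ρ' X hX) (Y.map X.mkQ) hZ, cf_irr (Sy.{u, v, w} ι 7) hZb, cf_dual ι 7 D₂]
  have c2 : cf (Sy.{u, v, w} ι 7) (subRep (subRep ρ (orth P.flip X) hW) (orth B₁ (Y.map X.mkQ)) hW₂) = {0, 0, 2, 4, 6} := by
    rw [hcf'] at c1
    have c3 : ({0, 0, 2, 4, 4, 4, 6} : Multiset ℕ) = {4} + ({4} + {0, 0, 2, 4, 6}) := by decide
    rw [c3] at c1
    exact (add_left_cancel (add_left_cancel c1)).symm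
  have h1 := pressure_cf ι 7 (a := 1) (by rw [hF, pow_one])
    (subRep (subRep ρ (orth P.flip X) hW) (orth B₁ (Y.map X.mkQ)) hW₂)
  rw [c2, fx_eq_bot] at h1
  · have h2 : Hs 7 1 ({0, 0, 2, 4, 6} : Multiset ℕ) = 1 := by decide
    have h3 : Multiset.count 0 ({0, 0, 2, 4, 6} : Multiset ℕ) = 2 := by decide
    omega
  · intro x hx
    apply Subtype.ext
    apply Subtype.ext
    refine fix _ fun g => ?_
    have h2 := congrArg (fun z : ↥(orth B₁ (Y.map X.mkQ)) => ((z : ↥(orth P.flip X)) : V)) (hx g)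
    exact h2

include hF in
/-- **the pattern `2, 2, 2, 2, 2, 4, 6`** -/
theorem patA (D : Dul ρ ρ' P) (fix : ∀ x, (∀ g, ρ g x = x) → x = 0) (fix' : ∀ x, (∀ g, ρ' g x = x) → x = 0)
    (hcf : cf (Sy.{u, v, w} ι 7) ρ = {2, 2, 2, 2, 2, 4, 6}) (hsoc : ∀ b, InSoc ι 7 ρ b → b = 4 ∨ b = 6)
    (hsoc' : ∀ b, InSoc ι 7 ρ' b → b = 4 ∨ b = 6) : False := by
  by_cases h6 : InSoc ι 7 ρ 6
  · have h6' : InSoc ι 7 ρ' 6 := six_dual ι hF fix' D.flip h6
    obtain ⟨X, hX, hXb⟩ := h6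
    obtain ⟨K, hK, hXK, h6K⟩ := exists_compl_of_both ι 7 D hX hXb h6' (by rw [hcf]; decide)
    obtain ⟨B₁, D₁, -⟩ := D.quot hX
    have c1 : cf (Sy.{u, v, w} ι 7) (quotRep ρ X hX) = {2, 2, 2, 2, 2, 4} := by
      have c2 := cf_add (Sy.{u, v, w} ι 7) ρ X hX
      rw [hcf, cf_irr (Sy.{u, v, w} ι 7) hXb] at c2
      have c3 : ({2, 2, 2, 2, 2, 4, 6} : Multiset ℕ) = {6} + {2, 2, 2, 2, 2, 4} := by decide
      rw [c3] at c2
      exact (add_left_cancel c2).symm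
    refine kill_typ ι 7 D₁ (fun b => b = 4) (by rw [c1]; decide) (fun c hc => ?_) (fun c hc => ?_) (by rw [c1]; decide)
    · have h1 := hc.mem_cf
      rw [c1] at h1
      obtain ⟨e, he⟩ := eqv_of_compl hX hK hXK
      have h2 : InSoc ι 7 ρ c := (hc.iso ι 7 (e.symm : (V ⧸ X) →ₗ[k] K) (fun g x => by
        apply e.injective
        show e (e.symm _) = e _
        rw [e.apply_symm_apply, he]
        show _ = quotRep ρ X hX g (e (e.symm x))
        rw [e.apply_symm_apply]) e.symm.injective).iso ι 7 K.subtype (fun _ _ => rfl) K.injective_subtype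
      rcases hsoc c h2 with h3 | h3
      · exact h3
      · subst h3
        exact absurd h1 (by decide)
    · have h1 := hc.mem_cf
      rw [cf_dual ι 7 D₁, c1] at h1
      have h2 : InSoc ι 7 ρ' c := hc.iso ι 7 (orth P X).subtype (fun _ _ => rfl) (orth P X).injective_subtype
      rcases hsoc' c h2 with h3 | h3
      · exact h3
      · subst h3
        exact absurd h1 (by decide)
  · have h6' : ¬ InSoc ι 7 ρ' 6 := fun h => h6 (six_dual ι hF fix D h)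
    refine kill_typ ι 7 D (fun b => b = 4) (by rw [hcf]; decide) (fun c hc => ?_) (fun c hc => ?_) (by rw [hcf]; decide)
    · rcases hsoc c hc with h3 | h3
      · exact h3
      · subst h3
        exact absurd hc h6
    · rcases hsoc' c hc with h3 | h3
      · exact h3
      · subst h3
        exact absurd hc h6'

end Cfsg.Agent.R2.H22.Q7

namespace Cfsg.Agent.R2.H22.Q7

open Matrix Cfsg.Agent.H943.SL2Rel Cfsg.Agent.H943.SL2Mod Cfsg.Agent.H943.RepAdd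
open Cfsg.Agent.R2.H28.SL2
open Cfsg.Lie
open Cfsg.Agent.ChevalleyStructure Cfsg.Agent.ChevalleyStructure.E6Form.Cubic
  Cfsg.Agent.ChevalleyStructure.E6Form.Table
open Cfsg.Agent.ChevalleyStructure.E6Min.Basic (Zgrp)
open Cfsg.Agent.R2.SL2 (typ tyl coe_tyl tyl_eq_nil)
open Cfsg.Agent.R2.H22.Loc (Nts not_inSoc_two)

universe u v w

variable {k : Type u} [Field k] [DecidableEq k] [IsAlgClosed k] {K : Type w} [Field K] [Fintype K] [DecidableEq K]
  (ι : K →+* k) {p a : ℕ} [Fact p.Prime] [CharP k p] [CharP K p]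
  {ψ : SpecialLinearGroup (Fin 2) K →* ↥(Zgrp k)} {ρ ρ' : Representation k ↥(Zgrp k) (I27 → k)}

/-- the labels below 7 -/
theorem sum_tyl [Fact (Nat.Prime 7)] {b : ℕ} (hb : b < 7) : (tyl 7 b).sum = b := by
  rcases Nat.eq_zero_or_pos b with rfl | h0
  · rw [tyl_eq_nil.2 rfl]
    rfl
  · have h1 := tyl_single (p := 7) h0 hb 0
    rw [pow_zero, mul_one] at h1
    rw [h1]
    simp

/-- **`q = 7`** -/
theorem q7_false (f : Fra p a ψ ρ ρ') (hp7 : p = 7) (ha : a = 1) (nts : Nts ψ ρ) (nts' : Nts ψ ρ')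
    {W : List (List ℕ)} (hW : W = [[], [], [2], [4], [4], [4], [6]] ∨ W = [[2], [2], [2], [2], [2], [4], [6]])
    (hw : (W : Multiset (List ℕ)) = (cf (Sy.{u, u, w} ι p) (Rr ρ ψ)).map (tyl p)) : False := by
  subst hp7
  subst ha
  have hF : Fintype.card K = 7 := by rw [f.card, pow_one]
  have hlt : ∀ b ∈ cf (Sy.{u, u, w} ι 7) (Rr ρ ψ), b < 7 := by
    intro b hb
    have := cf_lt ι 7 f.card (Rr ρ ψ) b hb
    rwa [pow_one] at this
  have hcf : cf (Sy.{u, u, w} ι 7) (Rr ρ ψ) = (W.map List.sum : List ℕ) := by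
    have h1 := congrArg (Multiset.map List.sum) hw
    rw [Multiset.map_map, Multiset.map_coe] at h1
    rw [h1]
    conv_lhs => rw [← Multiset.map_id (cf (Sy.{u, u, w} ι 7) (Rr ρ ψ))]
    exact Multiset.map_congr rfl fun b hb => (sum_tyl (hlt b hb)).symm
  have h2 : ¬ InSoc ι 7 (Rr ρ ψ) 2 := by
    have := not_inSoc_two (ι := ι) f (by norm_num) (by omega) nts nts' 0
    rwa [pow_zero, mul_one] at this
  have h2' : ¬ InSoc ι 7 (Rr ρ' ψ) 2 := by
    have := not_inSoc_two (ι := ι) f.swap (by norm_num) (by omega) nts' nts 0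
    rwa [pow_zero, mul_one] at this
  have hlab : ∀ b, b ∈ cf (Sy.{u, u, w} ι 7) (Rr ρ ψ) → b = 0 ∨ b = 2 ∨ b = 4 ∨ b = 6 := by
    intro b hb
    have h3 := hlt b hb
    have h4 := f.even ι b hb
    rw [Nat.even_iff] at h4
    omega
  have hsoc : ∀ b, InSoc ι 7 (Rr ρ ψ) b → b = 4 ∨ b = 6 := by
    intro b hb
    have h3 := f.soc_ne_zero ι hb
    rcases hlab b hb.mem_cf with h4 | h4 | h4 | h4
    · exact absurd h4 h3
    · subst h4
      exact absurd hb h2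
    · exact Or.inl h4
    · exact Or.inr h4
  have hsoc' : ∀ b, InSoc ι 7 (Rr ρ' ψ) b → b = 4 ∨ b = 6 := by
    intro b hb
    have h3 := f.swap.soc_ne_zero ι hb
    rcases hlab b (by rw [← f.cf_eq ι]; exact hb.mem_cf) with h4 | h4 | h4 | h4
    · exact absurd h4 h3
    · subst h4
      exact absurd hb h2'
    · exact Or.inl h4
    · exact Or.inr h4
  rcases hW with rfl | rfl
  · refine patB ι hF f.dul f.fix f.fix' ?_ hsoc'
    rw [hcf]
    rfl
  · refine patA ι hF f.dul f.fix f.fix' ?_ hsoc hsoc'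
    rw [hcf]
    rfl

end Cfsg.Agent.R2.H22.Q7
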