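import Cfsg.Agent.R2.H22.L2

/-!
# L4 : submodules `V_{4 p^i}` (helper22)

`four_sh_ne` : the square of the highest weight vector of a submodule `V_{4 p^i}` does not vanish (`p ≥ 5`, `q > 8`).
-/

set_option autoImplicit false
set_option linter.unusedSectionVars false
set_option linter.unusedSimpArgs false

namespace Cfsg.Agent.R2.H22.Loc

open Matrix Cfsg.Agent.H943.SL2Rel Cfsg.Agent.H943.SL2Mod Cfsg.Agent.H943.RepAdd
open Cfsg.Lie Cfsg.Agent.R2.H28.SL2
open Cfsg.Agent.ChevalleyStructure Cfsg.Agent.ChevalleyStructure.E6Form.Cubic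
  Cfsg.Agent.ChevalleyStructure.E6Form.Table
open Cfsg.Agent.ChevalleyStructure.E6Min.Basic (Zgrp)
open Cfsg.Agent.H952.F4 (sh cr tf)
open Cfsg.Agent.H952.F4.Jord
open Cfsg.Agent.H163.E6 (V V')
open Cfsg.Agent.R2.GEO (Pair crB crB_apply tfB tfB_apply)

universe u v w

attribute [local irreducible] Cfsg.Agent.H952.F4.cr Cfsg.Agent.H952.F4.sh Cfsg.Agent.H952.F4.tf

variable {k : Type u} [Field k] [DecidableEq k] [IsAlgClosed k] {K : Type w} [Field K] [Fintype K] [DecidableEq K]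
  {ι : K →+* k} {p a : ℕ} [Fact p.Prime] [CharP k p] [CharP K p]
  {ψ : SpecialLinearGroup (Fin 2) K →* ↥(Zgrp k)} {ρ ρ' : Representation k ↥(Zgrp k) (I27 → k)}

section four

variable {i : ℕ} {v : ℕ → I27 → k}

theorem four_u (c : Ch ι p (Rr ρ ψ) 4 i v) (t : K) :
    ρ (ψ (u t)) (v 0) = v 0 + (4 * ι t ^ p ^ i) • v 1 + (6 * (ι t ^ p ^ i) ^ 2) • v 2 + (4 * (ι t ^ p ^ i) ^ 3) • v 3 +
      ((ι t ^ p ^ i) ^ 4) • v 4 ∧
    ρ (ψ (u t)) (v 1) = v 1 + (3 * ι t ^ p ^ i) • v 2 + (3 * (ι t ^ p ^ i) ^ 2) • v 3 + ((ι t ^ p ^ i) ^ 3) • v 4 ∧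
    ρ (ψ (u t)) (v 2) = v 2 + (2 * ι t ^ p ^ i) • v 3 + ((ι t ^ p ^ i) ^ 2) • v 4 ∧
    ρ (ψ (u t)) (v 3) = v 3 + (ι t ^ p ^ i) • v 4 ∧ ρ (ψ (u t)) (v 4) = v 4 := by
  have h0 := c.u 0 (by norm_num) t
  have h1 := c.u 1 (by norm_num) t
  have h2 := c.u 2 (by norm_num) t
  have h3 := c.u 3 (by norm_num) t
  have h4 := c.u 4 (by norm_num) t
  simp only [Finset.sum_range_succ, Finset.sum_range_zero, Nat.choose, Rr_apply] at h0 h1 h2 h3 h4
  refine ⟨?_, ?_, ?_, ?_, ?_⟩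
  · rw [h0]
    norm_num
  · rw [h1]
    norm_num
  · rw [h2]
    norm_num
  · rw [h3]
    norm_num
  · rw [h4]
    norm_num

theorem four_w (c : Ch ι p (Rr ρ ψ) 4 i v) :
    ρ (ψ w) (v 0) = v 4 ∧ ρ (ψ w) (v 1) = -v 3 ∧ ρ (ψ w) (v 2) = v 2 ∧ ρ (ψ w) (v 3) = -v 1 ∧ ρ (ψ w) (v 4) = v 0 := by
  have h0 := c.w 0 (by norm_num)
  have h1 := c.w 1 (by norm_num)
  have h2 := c.w 2 (by norm_num)
  have h3 := c.w 3 (by norm_num)
  have h4 := c.w 4 (by norm_num)
  rw [Rr_apply] at h0 h1 h2 h3 h4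
  refine ⟨?_, ?_, ?_, ?_, ?_⟩
  · rw [h0]
    norm_num
  · rw [h1]
    norm_num
  · rw [h2]
    norm_num
  · rw [h3]
    norm_num
  · rw [h4]
    norm_num

theorem four_h (c : Ch ι p (Rr ρ ψ) 4 i v) (b : Kˣ) :
    ρ (ψ (h b)) (v 1) = (((ι b ^ p ^ i)⁻¹) ^ 2) • v 1 ∧ ρ (ψ (h b)) (v 2) = v 2 ∧
      ρ (ψ (h b)) (v 3) = ((ι b ^ p ^ i) ^ 2) • v 3 := by
  have h1 := c.h 1 (by norm_num) b
  have h2 := c.h 2 (by norm_num) b
  have h3 := c.h 3 (by norm_num) b
  rw [Rr_apply] at h1 h2 h3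
  have hb : (ι (b : K) ^ p ^ i) ≠ 0 := pow_ne_zero _ ((map_ne_zero ι).2 b.ne_zero)
  generalize ι (b : K) ^ p ^ i = x at *
  have e1 : x ^ 1 * x⁻¹ ^ (4 - 1) = x⁻¹ ^ 2 := by
    show x ^ 1 * x⁻¹ ^ 3 = x⁻¹ ^ 2
    field_simp
  have e2 : x ^ 2 * x⁻¹ ^ (4 - 2) = 1 := by
    show x ^ 2 * x⁻¹ ^ 2 = 1
    field_simp
  have e3 : x ^ 3 * x⁻¹ ^ (4 - 3) = x ^ 2 := by
    show x ^ 3 * x⁻¹ ^ 1 = x ^ 2
    field_simp
  rw [h1, h2, h3, e1, e2, e3, one_smul]
  exact ⟨rfl, rfl, rfl⟩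

/-- the square of the highest weight vector -/
theorem four_sh_ne (f : Fra p a ψ ρ ρ') (h5 : 5 ≤ p) (h9 : 9 ≤ Fintype.card K) (nts : Nts ψ ρ) (nts' : Nts ψ ρ')
    (c : Ch ι p (Rr ρ ψ) 4 i v) (hv : v 0 ≠ 0) : cr (v 4) (v 4) ≠ 0 := by
  intro k44
  apply hv
  have h2 : (2 : k) ≠ 0 := two_ne_zero' (ι := ι) f.odd
  have h3 : (3 : k) ≠ 0 := by
    intro h0
    have h1 : ((3 : ℕ) : k) = 0 := by exact_mod_cast h0
    rw [CharP.cast_eq_zero_iff k p] at h1
    have := (Nat.prime_dvd_prime_iff_eq (Fact.out : p.Prime) Nat.prime_three).1 h1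
    omega
  have can : ∀ (e : k) (x : I27 → k), e ≠ 0 → e • x = 0 → x = 0 := fun e x he hx => (smul_eq_zero.1 hx).resolve_left he
  have s8 : (8 : k) ≠ 0 := by
    rw [show (8 : k) = 2 ^ 3 by norm_num]
    exact pow_ne_zero _ h2
  have s4 : (4 : k) ≠ 0 := by
    rw [show (4 : k) = 2 ^ 2 by norm_num]
    exact pow_ne_zero _ h2
  have s24 : (24 : k) ≠ 0 := by
    rw [show (24 : k) = 2 ^ 3 * 3 by norm_num]
    exact mul_ne_zero (pow_ne_zero _ h2) h3
  have w' : ∀ x y, cr (ρ (ψ w) x) (ρ (ψ w) y) = ρ' (ψ w) (cr x y) := pair_cr f.pair _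
  have u' : ∀ t x y, cr (ρ (ψ (u t)) x) (ρ (ψ (u t)) y) = ρ' (ψ (u t)) (cr x y) := fun t => pair_cr f.pair _
  obtain ⟨w0, w1, w2, w3, w4⟩ := four_w c
  have c10 := cr_comm (v 1) (v 0)
  have c20 := cr_comm (v 2) (v 0)
  have c30 := cr_comm (v 3) (v 0)
  have c40 := cr_comm (v 4) (v 0)
  have c21 := cr_comm (v 2) (v 1)
  have c31 := cr_comm (v 3) (v 1)
  have c41 := cr_comm (v 4) (v 1)
  have c32 := cr_comm (v 3) (v 2)
  have c42 := cr_comm (v 4) (v 2)
  have c43 := cr_comm (v 4) (v 3)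
  have k00 : cr (v 0) (v 0) = 0 := by
    have h := w' (v 4) (v 4)
    rw [w4, k44, map_zero] at h
    exact h
  have hD : ∀ t : K, ρ' (ψ (u t)) (cr (v 0) (v 0)) = 0 := fun t => by rw [k00, map_zero]
  have hD' : ∀ t : K, (0 : I27 → k) + (ι t ^ p ^ i) • ((8 : k) • cr (v 0) (v 1)) +
      (ι t ^ p ^ i) ^ 2 • ((4 : k) • ((3 : k) • cr (v 0) (v 2) + (4 : k) • cr (v 1) (v 1))) +
      (ι t ^ p ^ i) ^ 3 • ((8 : k) • (cr (v 0) (v 3) + (6 : k) • cr (v 1) (v 2))) +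
      (ι t ^ p ^ i) ^ 4 • ((2 : k) • (cr (v 0) (v 4) + (16 : k) • cr (v 1) (v 3) + (18 : k) • cr (v 2) (v 2))) +
      (ι t ^ p ^ i) ^ 5 • ((8 : k) • (cr (v 1) (v 4) + (6 : k) • cr (v 2) (v 3))) +
      (ι t ^ p ^ i) ^ 6 • ((4 : k) • ((3 : k) • cr (v 2) (v 4) + (4 : k) • cr (v 3) (v 3))) +
      (ι t ^ p ^ i) ^ 7 • ((8 : k) • cr (v 3) (v 4)) + (ι t ^ p ^ i) ^ 8 • (0 : I27 → k) = 0 := by
    intro t
    have h := hD t
    rw [← u', (four_u c t).1] at h
    simp only [cr_add_left, cr_add_right, cr_smul_left, cr_smul_right, c10, c20, c30, c40, c21, c31, c41, c32, c42, c43,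
      k00, k44] at h
    linear_combination (norm := module) h
  obtain ⟨-, d1, d2, d3, d4, d5, d6, d7, -⟩ := coeff9 (ι := ι) (p := p) h9 hD'
  have k01 := can _ _ s8 d1
  have e2 := can _ _ s4 d2
  have e3 := can _ _ s8 d3
  have e4 := can _ _ h2 d4
  have e5 := can _ _ s8 d5
  have e6 := can _ _ s4 d6
  have k34 := can _ _ s8 d7
  -- the fixed vector
  have efix : (4 : k) • cr (v 1) (v 3) + (3 : k) • cr (v 2) (v 2) = 0 := by
    refine fix_zero f.swap (fun t => ?_) (fun b => ?_) ?_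
    · obtain ⟨u0, u1, u2, u3, u4⟩ := four_u c t
      rw [map_add, map_smul, map_smul, ← u', ← u', u1, u2, u3]
      simp only [cr_add_left, cr_add_right, cr_smul_left, cr_smul_right, c10, c20, c30, c40, c21, c31, c41, c32, c42, c43,
        k00, k44, k34]
      have e5' : cr (v 1) (v 4) = -((6 : k) • cr (v 2) (v 3)) := eq_neg_of_add_eq_zero_left e5
      rw [e5']
      linear_combination (norm := module) (6 * (ι t ^ p ^ i) ^ 2) • e6
    · obtain ⟨q1, q2, q3⟩ := four_h c b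
      have hb : (ι (b : K) ^ p ^ i) ≠ 0 := pow_ne_zero _ ((map_ne_zero ι).2 b.ne_zero)
      have e : ∀ z : I27 → k, ((ι (b : K) ^ p ^ i)⁻¹ ^ 2) • ((ι (b : K) ^ p ^ i) ^ 2) • z = z := fun z => by
        rw [smul_smul, ← mul_pow, inv_mul_cancel₀ hb, one_pow, one_smul]
      rw [map_add, map_smul, map_smul, ← pair_cr f.pair, ← pair_cr f.pair, q1, q2, q3, cr_smul_left, cr_smul_right, e]
    · rw [map_add, map_smul, map_smul, ← w', ← w', w1, w2, w3, ← neg_one_smul k (v 1), ← neg_one_smul k (v 3),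
        cr_smul_left, cr_smul_right, c31]
      module
  -- the tables in terms of five vectors
  obtain ⟨z0, hz0⟩ : ∃ z, z = cr (v 0) (v 2) + cr (v 1) (v 1) := ⟨_, rfl⟩
  obtain ⟨z1, hz1⟩ : ∃ z, z = cr (v 1) (v 2) := ⟨_, rfl⟩
  obtain ⟨z2, hz2⟩ : ∃ z, z = cr (v 1) (v 3) + cr (v 2) (v 2) := ⟨_, rfl⟩
  obtain ⟨z3, hz3⟩ : ∃ z, z = cr (v 2) (v 3) := ⟨_, rfl⟩
  obtain ⟨z4, hz4⟩ : ∃ z, z = cr (v 2) (v 4) + cr (v 3) (v 3) := ⟨_, rfl⟩
  have k11 : cr (v 1) (v 1) = (-3 : k) • z0 := by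
    rw [hz0]
    linear_combination (norm := module) e2
  have k02 : cr (v 0) (v 2) = (4 : k) • z0 := by
    rw [hz0]
    linear_combination (norm := module) -e2
  have k12 : cr (v 1) (v 2) = z1 := hz1.symm
  have k03 : cr (v 0) (v 3) = (-6 : k) • z1 := by
    rw [hz1]
    linear_combination (norm := module) e3
  have k22 : cr (v 2) (v 2) = (4 : k) • z2 := by
    rw [hz2]
    linear_combination (norm := module) -efix
  have k13 : cr (v 1) (v 3) = (-3 : k) • z2 := by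
    rw [hz2]
    linear_combination (norm := module) efix
  have k04 : cr (v 0) (v 4) = (-24 : k) • z2 := by
    rw [hz2]
    linear_combination (norm := module) e4 + (2 : k) • efix
  have k23 : cr (v 2) (v 3) = z3 := hz3.symm
  have k14 : cr (v 1) (v 4) = (-6 : k) • z3 := by
    rw [hz3]
    linear_combination (norm := module) e5
  have k24 : cr (v 2) (v 4) = (4 : k) • z4 := by
    rw [hz4]
    linear_combination (norm := module) -e6
  have k33 : cr (v 3) (v 3) = (-3 : k) • z4 := by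
    rw [hz4]
    linear_combination (norm := module) e6
  -- the action on the five vectors
  have hw0 : ρ' (ψ w) z0 = z4 := by
    rw [hz0, map_add, ← w', ← w', w0, w1, w2, ← neg_one_smul k (v 3), cr_smul_left, cr_smul_right, c42, hz4]
    module
  have hw1 : ρ' (ψ w) z1 = -z3 := by
    rw [hz1, ← w', w1, w2, ← neg_one_smul k (v 3), cr_smul_left, c32, hz3]
    module
  have hw2 : ρ' (ψ w) z2 = z2 := by
    rw [hz2, map_add, ← w', ← w', w1, w2, w3, ← neg_one_smul k (v 3), ← neg_one_smul k (v 1), cr_smul_left,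
      cr_smul_right, c31]
    module
  have hw3 : ρ' (ψ w) z3 = -z1 := by
    rw [hz3, ← w', w2, w3, ← neg_one_smul k (v 1), cr_smul_right, c21, hz1]
    module
  have hw4 : ρ' (ψ w) z4 = z0 := by
    rw [hz4, map_add, ← w', ← w', w2, w3, w4, ← neg_one_smul k (v 1), cr_smul_left, cr_smul_right, c20, hz0]
    module
  have hu2 : ∀ t, ρ' (ψ (u t)) z2 = z2 + (ι t ^ p ^ i) • z3 - ((ι t ^ p ^ i) ^ 2) • z4 := by
    intro t
    obtain ⟨u0, u1, u2, u3, u4⟩ := four_u c t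
    have h : (4 : k) • ρ' (ψ (u t)) z2 = (4 : k) • (z2 + (ι t ^ p ^ i) • z3 - ((ι t ^ p ^ i) ^ 2) • z4) := by
      rw [← map_smul, ← k22, ← u', u2]
      simp only [cr_add_left, cr_add_right, cr_smul_left, cr_smul_right, c32, c42, c43, k22, k23, k24, k33, k34, k44]
      module
    exact smul_right_injective _ s4 h
  have hu1 : ∀ t, ρ' (ψ (u t)) z1 = z1 + (6 * ι t ^ p ^ i) • z2 + (3 * (ι t ^ p ^ i) ^ 2) • z3 -
      (2 * (ι t ^ p ^ i) ^ 3) • z4 := by
    intro t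
    obtain ⟨u0, u1, u2, u3, u4⟩ := four_u c t
    rw [← k12, ← u', u1, u2]
    simp only [cr_add_left, cr_add_right, cr_smul_left, cr_smul_right, c32, c42, c43, k12, k13, k14, k22, k23, k24, k33,
      k34, k44]
    module
  have hu0 : ∀ t, ρ' (ψ (u t)) z0 = z0 - (2 * ι t ^ p ^ i) • z1 - (6 * (ι t ^ p ^ i) ^ 2) • z2 -
      (2 * (ι t ^ p ^ i) ^ 3) • z3 + ((ι t ^ p ^ i) ^ 4) • z4 := by
    intro t
    obtain ⟨u0, u1, u2, u3, u4⟩ := four_u c t
    have h : (-3 : k) • ρ' (ψ (u t)) z0 = (-3 : k) • (z0 - (2 * ι t ^ p ^ i) • z1 - (6 * (ι t ^ p ^ i) ^ 2) • z2 -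
      (2 * (ι t ^ p ^ i) ^ 3) • z3 + ((ι t ^ p ^ i) ^ 4) • z4) := by
      rw [← map_smul, ← k11, ← u', u1]
      simp only [cr_add_left, cr_add_right, cr_smul_left, cr_smul_right, c21, c31, c41, c32, c42, c43, k11, k12, k13,
        k14, k22, k23, k24, k33, k34, k44]
      module
    exact smul_right_injective _ (neg_ne_zero.2 h3) h
  -- the products
  have W : ∀ x y, cr (ρ' (ψ w) x) (ρ' (ψ w) y) = ρ (ψ w) (cr x y) := pair_cr f.pair.swap _
  have U : ∀ t x y, cr (ρ' (ψ (u t)) x) (ρ' (ψ (u t)) y) = ρ (ψ (u t)) (cr x y) := fun t => pair_cr f.pair.swap _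
  have x10 := cr_comm z1 z0
  have x20 := cr_comm z2 z0
  have x30 := cr_comm z3 z0
  have x40 := cr_comm z4 z0
  have x21 := cr_comm z2 z1
  have x31 := cr_comm z3 z1
  have x41 := cr_comm z4 z1
  have x32 := cr_comm z3 z2
  have x42 := cr_comm z4 z2
  have x43 := cr_comm z4 z3
  have z22 : cr z2 z2 = 0 := by
    have h := cr4 (v 0) (v 4) (v 0) (v 4)
    rw [k00, k44, cr_zero_left, tf_zero_left, c40, tf_cr (v 0) (v 4) (v 0), c40, ← tf_cr, k00, tf_zero_left,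
      tf_cr (v 0) (v 4) (v 4), k44, tf_zero_right, k04, cr_smul_left, cr_smul_right] at h
    have h' : (1152 : k) • cr z2 z2 = 0 := by linear_combination (norm := module) h
    refine can _ _ ?_ h'
    rw [show (1152 : k) = 2 ^ 7 * 3 ^ 2 by norm_num]
    exact mul_ne_zero (pow_ne_zero _ h2) (pow_ne_zero _ h3)
  have h5' : 5 ≤ Fintype.card K := by omega
  have h6' : 6 ≤ Fintype.card K := by omega
  have g2 : ∀ t : K, (0 : I27 → k) + (ι t ^ p ^ i) • ((2 : k) • cr z2 z3) +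
      (ι t ^ p ^ i) ^ 2 • (cr z3 z3 - (2 : k) • cr z2 z4) +
      (ι t ^ p ^ i) ^ 3 • ((-2 : k) • cr z3 z4) + (ι t ^ p ^ i) ^ 4 • cr z4 z4 = 0 := by
    intro t
    have h := U t z2 z2
    rw [z22, map_zero, hu2] at h
    simp only [sub_eq_add_neg, ← neg_smul, cr_add_left, cr_add_right, cr_smul_left, cr_smul_right, x32, x42, x43, z22] at h
    linear_combination (norm := module) h
  obtain ⟨-, a1, a2, a3, z44⟩ := coeff5 (ι := ι) (p := p) h5' g2
  have z23 := can _ _ h2 a1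
  have z34 := can _ _ (neg_ne_zero.2 h2) a3
  have z12 : cr z1 z2 = 0 := by
    have h := W z2 z3
    rw [z23, map_zero, hw2, hw3, ← neg_one_smul k z1, cr_smul_right, x21] at h
    exact can _ _ (neg_ne_zero.2 one_ne_zero) h
  have z01 : cr z0 z1 = 0 := by
    have h := W z4 z3
    rw [x43, z34, map_zero, hw4, hw3, ← neg_one_smul k z1, cr_smul_right] at h
    exact can _ _ (neg_ne_zero.2 one_ne_zero) h
  have z00 : cr z0 z0 = 0 := by
    have h := W z4 z4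
    rw [z44, map_zero, hw4] at h
    exact h
  have g1 : ∀ t : K, (0 : I27 → k) + (ι t ^ p ^ i) • cr z1 z3 +
      (ι t ^ p ^ i) ^ 2 • (-cr z1 z4) +
      (ι t ^ p ^ i) ^ 3 • ((3 : k) • cr z3 z3 - (8 : k) • cr z2 z4) + (ι t ^ p ^ i) ^ 4 • (0 : I27 → k) = 0 := by
    intro t
    have h := U t z1 z2
    rw [z12, map_zero, hu1, hu2] at h
    simp only [sub_eq_add_neg, ← neg_smul, cr_add_left, cr_add_right, cr_smul_left, cr_smul_right, x32, x42, x43, z22,
      z23, z34, z44, z12] at h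
    linear_combination (norm := module) h
  obtain ⟨-, z13, b2, b3, -⟩ := coeff5 (ι := ι) (p := p) h5' g1
  have z14 : cr z1 z4 = 0 := neg_eq_zero.1 b2
  have z24 : cr z2 z4 = 0 := by
    have h : (-2 : k) • cr z2 z4 = 0 := by linear_combination (norm := module) b3 - (3 : k) • a2
    exact can _ _ (neg_ne_zero.2 h2) h
  have z33 : cr z3 z3 = 0 := by
    rw [z24, smul_zero, sub_zero] at a2
    exact a2
  have z02 : cr z0 z2 = 0 := by
    have h := W z4 z2
    rw [x42, z24, map_zero, hw4, hw2] at h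
    exact h
  have z11 : cr z1 z1 = 0 := by
    have h := W z3 z3
    rw [z33, map_zero, hw3, ← neg_one_smul k z1, cr_smul_right, cr_smul_left] at h
    exact can _ _ (neg_ne_zero.2 one_ne_zero) (can _ _ (neg_ne_zero.2 one_ne_zero) h)
  have z03 : cr z0 z3 = 0 := by
    have h := W z4 z1
    rw [x41, z14, map_zero, hw4, hw1, ← neg_one_smul k z3, cr_smul_right] at h
    exact can _ _ (neg_ne_zero.2 one_ne_zero) h
  have g0 : ∀ t : K, (0 : I27 → k) + (ι t ^ p ^ i) • (0 : I27 → k) +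
      (ι t ^ p ^ i) ^ 2 • (-cr z0 z4) +
      (ι t ^ p ^ i) ^ 3 • (0 : I27 → k) + (ι t ^ p ^ i) ^ 4 • (0 : I27 → k) = 0 := by
    intro t
    have h := U t z0 z2
    rw [z02, map_zero, hu0, hu2] at h
    simp only [sub_eq_add_neg, ← neg_smul, cr_add_left, cr_add_right, cr_smul_left, cr_smul_right, x32, x42, x43, z22,
      z23, z34, z44, z12, z13, z14, z24, z33, z02, z03, x21] at h
    linear_combination (norm := module) h
  obtain ⟨-, -, d2', -, -⟩ := coeff5 (ι := ι) (p := p) h5' g0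
  have z04 : cr z0 z4 = 0 := neg_eq_zero.1 d2'
  refine sq_bot' (T := {z0, z1, z2, z3, z4}) f h2 nts nts' c.stab ?_ ?_ (v 0) ⟨0, rfl⟩
  · have hz : ∀ s, 4 < s → v s = 0 := c.zero
    have m0 : z0 ∈ Submodule.span k ({z0, z1, z2, z3, z4} : Set (I27 → k)) := Submodule.subset_span (by simp)
    have m1 : z1 ∈ Submodule.span k ({z0, z1, z2, z3, z4} : Set (I27 → k)) := Submodule.subset_span (by simp)
    have m2 : z2 ∈ Submodule.span k ({z0, z1, z2, z3, z4} : Set (I27 → k)) := Submodule.subset_span (by simp)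
    have m3 : z3 ∈ Submodule.span k ({z0, z1, z2, z3, z4} : Set (I27 → k)) := Submodule.subset_span (by simp)
    have m4 : z4 ∈ Submodule.span k ({z0, z1, z2, z3, z4} : Set (I27 → k)) := Submodule.subset_span (by simp)
    rintro _ ⟨x, rfl⟩ _ ⟨y, rfl⟩
    rcases lt_or_ge 4 x with hx | hx
    · rw [hz x hx, cr_zero_left]
      exact Submodule.zero_mem _
    rcases lt_or_ge 4 y with hy | hy
    · rw [hz y hy, cr_zero_right]
      exact Submodule.zero_mem _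
    interval_cases x <;> interval_cases y <;>
      simp only [c10, c20, c30, c40, c21, c31, c41, c32, c42, c43, k00, k01, k02, k03, k04, k11, k12, k13, k14, k22, k23,
        k24, k33, k34, k44] <;>
      first | exact Submodule.zero_mem _ | assumption | (apply Submodule.smul_mem; assumption)
  · intro y hy y' hy'
    simp only [Set.mem_insert_iff, Set.mem_singleton_iff] at hy hy'
    rcases hy with rfl | rfl | rfl | rfl | rfl <;> rcases hy' with rfl | rfl | rfl | rfl | rfl <;>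
      simp only [x10, x20, x30, x40, x21, x31, x41, x32, x42, x43, z00, z01, z02, z03, z04, z11, z12, z13, z14, z22, z23,
        z24, z33, z34, z44]

end four

end Cfsg.Agent.R2.H22.Loc
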