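import Cfsg.Agent.R2.H28.SL2.Fra
import Cfsg.Agent.R2.H28.SL2.Bas

/-!
# Chains of vectors in the two modules, local lemmas (helper22)

* `Ch σ n i v` : the vectors `v 0, …, v n` satisfy the relations of the standard basis of `V_{n p^i}`;
* `exists_ch` : a submodule `V_{n p^i}` gives a chain; `Ch.inSoc` : a non-zero chain gives a submodule;
* `Nts` : no stable totally singular subspaces; `eq_bot_of_sq`;
* `coeff_mem` : coefficients of polynomials in `t`.
-/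

set_option autoImplicit false
set_option linter.unusedSectionVars false

namespace Cfsg.Agent.R2.H22.Loc

open Matrix Cfsg.Agent.H943.SL2Rel Cfsg.Agent.H943.SL2Mod Cfsg.Agent.H943.RepAdd
open Cfsg.Lie Cfsg.Agent.R2.H28.SL2
open Cfsg.Agent.ChevalleyStructure Cfsg.Agent.ChevalleyStructure.E6Form.Cubic
  Cfsg.Agent.ChevalleyStructure.E6Form.Table
open Cfsg.Agent.ChevalleyStructure.E6Min.Basic (Zgrp)
open Cfsg.Agent.H952.F4 (sh cr tf)
open Cfsg.Agent.H952.F4.Jord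
open Cfsg.Agent.H163.E6 (V V')
open Cfsg.Agent.R2.GEO (Pair crB crB_apply tfB tfB_apply)

universe u v w

section chains

variable {k : Type u} [Field k] [DecidableEq k] [IsAlgClosed k] {K : Type w} [Field K] [Fintype K] [DecidableEq K]
  (ι : K →+* k) (p : ℕ) [Fact p.Prime] [CharP k p] [CharP K p]

/-- the relations of the standard basis of `V_{n p^i}` -/
structure Ch {V : Type*} [AddCommGroup V] [Module k V] (σ : Representation k (SpecialLinearGroup (Fin 2) K) V) (n i : ℕ)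
    (v : ℕ → V) : Prop where
  zero : ∀ s, n < s → v s = 0
  u : ∀ s ≤ n, ∀ t, σ (u t) (v s) =
    ∑ j ∈ Finset.range (n - s + 1), (((n - s).choose j : k) * (ι t ^ p ^ i) ^ j) • v (s + j)
  h : ∀ s ≤ n, ∀ a : Kˣ, σ (h a) (v s) = ((ι a ^ p ^ i) ^ s * ((ι a ^ p ^ i)⁻¹) ^ (n - s)) • v s
  w : ∀ s ≤ n, σ w (v s) = (-1 : k) ^ s • v (n - s)

variable {ι p} {V : Type*} [AddCommGroup V] [Module k V] {σ : Representation k (SpecialLinearGroup (Fin 2) K) V} {n i : ℕ}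

theorem exists_ch (hn : n < p) (h : InSoc ι p σ (n * p ^ i)) :
    ∃ v : ℕ → V, Ch ι p σ n i v ∧ ∀ s ≤ n, v s ≠ 0 := by
  obtain ⟨X, hX, hb⟩ := h
  obtain ⟨v, hv⟩ := hb.basS ι p hn
  refine ⟨fun s => (v s : V), ⟨fun s hs => by rw [hv.zero s hs]; rfl, fun s hs t => ?_, fun s hs a => ?_,
    fun s hs => ?_⟩, fun s hs h0 => ?_⟩
  · have h1 := congrArg Subtype.val (hv.u s hs t)
    rw [Submodule.coe_sum] at h1
    exact h1
  · exact congrArg Subtype.val (hv.h s hs a)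
  · exact congrArg Subtype.val (hv.w s hs)
  · exact hv.li.ne_zero (⟨s, Nat.lt_succ_of_le hs⟩ : Fin (n + 1)) (Subtype.ext h0)

theorem stab_of_gen {W : Submodule k V} (hu : ∀ t, ∀ x ∈ W, σ (u t) x ∈ W) (hh : ∀ a, ∀ x ∈ W, σ (h a) x ∈ W)
    (hw : ∀ x ∈ W, σ w x ∈ W) : ∀ g, ∀ x ∈ W, σ g x ∈ W := by
  intro g
  refine induct (P := fun g => ∀ x ∈ W, σ g x ∈ W) hu hh hw (fun a b ha hb x hx => ?_) g
  rw [map_mul, Module.End.mul_apply]
  exact ha _ (hb x hx)

theorem fixed_of_gen {x : V} (hu : ∀ t, σ (u t) x = x) (hh : ∀ a, σ (h a) x = x) (hw : σ w x = x) : ∀ g, σ g x = x := by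
  intro g
  refine induct (P := fun g => σ g x = x) hu hh hw (fun a b ha hb => ?_) g
  rw [map_mul, Module.End.mul_apply, hb, ha]

theorem stab_span {S : Set V} (hu : ∀ t, ∀ x ∈ S, σ (u t) x ∈ Submodule.span k S)
    (hh : ∀ a, ∀ x ∈ S, σ (h a) x ∈ Submodule.span k S) (hw : ∀ x ∈ S, σ w x ∈ Submodule.span k S) :
    ∀ g, ∀ x ∈ Submodule.span k S, σ g x ∈ Submodule.span k S := by
  refine stab_of_gen (fun t x hx => ?_) (fun a x hx => ?_) fun x hx => ?_
  · exact (Submodule.map_span_le (σ (u t)) S _).2 (hu t) (Submodule.mem_map_of_mem hx)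
  · exact (Submodule.map_span_le (σ (h a)) S _).2 (hh a) (Submodule.mem_map_of_mem hx)
  · exact (Submodule.map_span_le (σ w) S _).2 hw (Submodule.mem_map_of_mem hx)

theorem Ch.stab {v : ℕ → V} (c : Ch ι p σ n i v) :
    ∀ g, ∀ x ∈ Submodule.span k (Set.range v), σ g x ∈ Submodule.span k (Set.range v) := by
  have hm : ∀ s, v s ∈ Submodule.span k (Set.range v) := fun s => Submodule.subset_span ⟨s, rfl⟩
  have hc : ∀ s, n < s ∨ s ≤ n := fun s => lt_or_ge n s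
  refine stab_span ?_ ?_ ?_
  · rintro t _ ⟨s, rfl⟩
    rcases hc s with hs | hs
    · rw [c.zero s hs, map_zero]
      exact Submodule.zero_mem _
    · rw [c.u s hs]
      exact Submodule.sum_mem _ fun j _ => Submodule.smul_mem _ _ (hm _)
  · rintro a _ ⟨s, rfl⟩
    rcases hc s with hs | hs
    · rw [c.zero s hs, map_zero]
      exact Submodule.zero_mem _
    · rw [c.h s hs]
      exact Submodule.smul_mem _ _ (hm _)
  · rintro _ ⟨s, rfl⟩
    rcases hc s with hs | hs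
    · rw [c.zero s hs, map_zero]
      exact Submodule.zero_mem _
    · rw [c.w s hs]
      exact Submodule.smul_mem _ _ (hm _)

/-- a non-zero chain gives a submodule -/
theorem Ch.inSoc (hn : n < p) (hb : n * p ^ i ≤ Fintype.card K - 1) {y : ℕ → V} (c : Ch ι p σ n i y)
    (h0 : ∃ s, y s ≠ 0) : InSoc ι p σ (n * p ^ i) := by
  have hV : IsV ι p (RB ι p hb) (n * p ^ i) := ⟨hb, LinearEquiv.refl k _, fun _ _ => rfl⟩
  obtain ⟨v, hv⟩ := hV.basS ι p hn
  let B : Module.Basis (Fin (n + 1)) k (Vb ι (n * p ^ i)) := Module.Basis.mk hv.li hv.sp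
  let f : Vb ι (n * p ^ i) →ₗ[k] V := B.constr k fun s => y s
  have hf : ∀ s, f (v s) = y s := by
    intro s
    rcases lt_or_ge n s with hs | hs
    · rw [hv.zero s hs, c.zero s hs, map_zero]
    · have h1 := B.constr_basis k (fun s : Fin (n + 1) => y s) ⟨s, Nat.lt_succ_of_le hs⟩
      rw [Module.Basis.mk_apply] at h1
      exact h1
  have key : ∀ (g : SpecialLinearGroup (Fin 2) K), (∀ s ≤ n, f (RB ι p hb g (v s)) = σ g (y s)) →
      ∀ x, f (RB ι p hb g x) = σ g (f x) := by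
    intro g hg x
    have h1 : f ∘ₗ (RB ι p hb g) = (σ g) ∘ₗ f := by
      refine B.ext fun s => ?_
      rw [Module.Basis.mk_apply, LinearMap.comp_apply, LinearMap.comp_apply, hg s (Nat.lt_succ_iff.1 s.2), hf]
    exact LinearMap.congr_fun h1 x
  have hfe : ∀ g x, f (RB ι p hb g x) = σ g (f x) := by
    intro g
    refine induct (P := fun g => ∀ x, f (RB ι p hb g x) = σ g (f x)) (fun t => key _ fun s hs => ?_)
      (fun a => key _ fun s hs => ?_) (key _ fun s hs => ?_) (fun a b ha hb' x => ?_) g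
    · rw [hv.u s hs, map_sum, c.u s hs]
      exact Finset.sum_congr rfl fun j _ => by rw [map_smul, hf]
    · rw [hv.h s hs, map_smul, c.h s hs, hf]
    · rw [hv.w s hs, map_smul, c.w s hs, hf]
    · rw [map_mul, Module.End.mul_apply, map_mul, Module.End.mul_apply, ha, hb']
  refine inSoc_of_hom ι p hV f hfe fun h1 => ?_
  obtain ⟨s, hs⟩ := h0
  apply hs
  rw [← hf, h1, LinearMap.zero_apply]

/-- coefficients of polynomials in `t` -/
theorem coeff_mem {W : Submodule k V} {I : Type*} (S : Finset I) (f : I → ℕ) (c : I → V)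
    (hinj : Set.InjOn f (S : Set I)) (hf : ∀ e ∈ S, f e < Fintype.card K)
    (h : ∀ t : K, ∑ e ∈ S, ι t ^ f e • c e ∈ W) : ∀ e ∈ S, c e ∈ W := by
  classical
  intro e he
  by_contra hc
  have h1 : W.mkQ (c e) ≠ 0 := by
    intro h0
    exact hc ((Submodule.Quotient.mk_eq_zero W).1 h0)
  obtain ⟨φ, hφ⟩ : ∃ φ : Module.Dual k (V ⧸ W), φ (W.mkQ (c e)) ≠ 0 := by
    by_contra hcon
    push Not at hcon
    exact h1 ((Module.forall_dual_apply_eq_zero_iff k _).1 hcon)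
  let P : Polynomial k := ∑ e ∈ S, Polynomial.monomial (f e) (φ (W.mkQ (c e)))
  have hP : P = 0 := by
    refine Polynomial.eq_zero_of_degree_lt_of_eval_finset_eq_zero (Finset.univ.image ι) ?_ ?_
    · rw [Finset.card_image_of_injective _ ι.injective, Finset.card_univ]
      refine lt_of_le_of_lt (Polynomial.degree_sum_le _ _) ?_
      rw [Finset.sup_lt_iff (WithBot.bot_lt_coe _)]
      intro e' he'
      refine lt_of_le_of_lt (Polynomial.degree_monomial_le _ _) ?_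
      exact_mod_cast hf e' he'
    · intro x hx
      obtain ⟨t, -, rfl⟩ := Finset.mem_image.1 hx
      have h2 : φ (W.mkQ (∑ e ∈ S, ι t ^ f e • c e)) = 0 := by
        rw [show W.mkQ (∑ e ∈ S, ι t ^ f e • c e) = 0 from (Submodule.Quotient.mk_eq_zero W).2 (h t), map_zero]
      rw [map_sum, map_sum] at h2
      rw [Polynomial.eval_finsetSum, ← h2]
      refine Finset.sum_congr rfl fun e' _ => ?_
      rw [Polynomial.eval_monomial, map_smul, map_smul, smul_eq_mul, mul_comm]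
  apply hφ
  have h2 : P.coeff (f e) = φ (W.mkQ (c e)) := by
    rw [Polynomial.finsetSum_coeff, Finset.sum_eq_single e]
    · rw [Polynomial.coeff_monomial, if_pos rfl]
    · intro e' he' hne
      rw [Polynomial.coeff_monomial, if_neg]
      intro h3
      exact hne (hinj he' he h3)
    · intro h3
      exact absurd he h3
  rw [← h2, hP, Polynomial.coeff_zero]

/-- the twisted version: `T = t ^ (p ^ i)` -/
theorem coeff_mem_pow {W : Submodule k V} {I : Type*} (i : ℕ) (S : Finset I) (f : I → ℕ) (c : I → V)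
    (hinj : Set.InjOn f (S : Set I)) (hf : ∀ e ∈ S, f e < Fintype.card K)
    (h : ∀ t : K, ∑ e ∈ S, (ι t ^ p ^ i) ^ f e • c e ∈ W) : ∀ e ∈ S, c e ∈ W := by
  refine coeff_mem (ι := ι) S f c hinj hf fun t => ?_
  obtain ⟨s, rfl⟩ : ∃ s : K, s ^ p ^ i = t := by
    have h1 : Function.Bijective (iterateFrobenius K p i) := by
      rw [Fintype.bijective_iff_injective_and_card]
      exact ⟨(iterateFrobenius K p i).injective, rfl⟩
    obtain ⟨s, hs⟩ := h1.2 t
    exact ⟨s, by rw [← iterateFrobenius_def]; exact hs⟩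
  rw [map_pow]
  exact h s

theorem coeffs_zero (i n : ℕ) (hK : n ≤ Fintype.card K) (c : ℕ → V)
    (h : ∀ t : K, ∑ j ∈ Finset.range n, (ι t ^ p ^ i) ^ j • c j = 0) : ∀ j, j < n → c j = 0 := by
  intro j hj
  have h1 := coeff_mem_pow (W := (⊥ : Submodule k V)) (ι := ι) (p := p) i (Finset.range n) id c
    (fun x _ y _ h => h) (fun e he => lt_of_lt_of_le (Finset.mem_range.1 he) hK) (fun t => by
      rw [Submodule.mem_bot]
      exact h t) j (Finset.mem_range.2 hj)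
  exact (Submodule.mem_bot k).1 h1

theorem coeff5 {i : ℕ} (hK : 5 ≤ Fintype.card K) {c0 c1 c2 c3 c4 : V}
    (h : ∀ t : K, c0 + (ι t ^ p ^ i) • c1 + (ι t ^ p ^ i) ^ 2 • c2 + (ι t ^ p ^ i) ^ 3 • c3 + (ι t ^ p ^ i) ^ 4 • c4 = 0) :
    c0 = 0 ∧ c1 = 0 ∧ c2 = 0 ∧ c3 = 0 ∧ c4 = 0 := by
  have key := coeffs_zero (ι := ι) (p := p) i 5 hK (fun j => if hj : j < 5 then (![c0, c1, c2, c3, c4] : Fin 5 → V) ⟨j, hj⟩ else 0)
    (fun t => by
      rw [← h t]
      simp [Finset.sum_range_succ])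
  exact ⟨key 0 (by norm_num), key 1 (by norm_num), key 2 (by norm_num), key 3 (by norm_num), key 4 (by norm_num)⟩

theorem coeff6 {i : ℕ} (hK : 6 ≤ Fintype.card K) {c0 c1 c2 c3 c4 c5 : V}
    (h : ∀ t : K, c0 + (ι t ^ p ^ i) • c1 + (ι t ^ p ^ i) ^ 2 • c2 + (ι t ^ p ^ i) ^ 3 • c3 + (ι t ^ p ^ i) ^ 4 • c4 + (ι t ^ p ^ i) ^ 5 • c5 = 0) :
    c0 = 0 ∧ c1 = 0 ∧ c2 = 0 ∧ c3 = 0 ∧ c4 = 0 ∧ c5 = 0 := by
  have key := coeffs_zero (ι := ι) (p := p) i 6 hK (fun j => if hj : j < 6 then (![c0, c1, c2, c3, c4, c5] : Fin 6 → V) ⟨j, hj⟩ else 0)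
    (fun t => by
      rw [← h t]
      simp [Finset.sum_range_succ])
  exact ⟨key 0 (by norm_num), key 1 (by norm_num), key 2 (by norm_num), key 3 (by norm_num), key 4 (by norm_num), key 5 (by norm_num)⟩

theorem coeff9 {i : ℕ} (hK : 9 ≤ Fintype.card K) {c0 c1 c2 c3 c4 c5 c6 c7 c8 : V}
    (h : ∀ t : K, c0 + (ι t ^ p ^ i) • c1 + (ι t ^ p ^ i) ^ 2 • c2 + (ι t ^ p ^ i) ^ 3 • c3 + (ι t ^ p ^ i) ^ 4 • c4 + (ι t ^ p ^ i) ^ 5 • c5 + (ι t ^ p ^ i) ^ 6 • c6 + (ι t ^ p ^ i) ^ 7 • c7 + (ι t ^ p ^ i) ^ 8 • c8 = 0) :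
    c0 = 0 ∧ c1 = 0 ∧ c2 = 0 ∧ c3 = 0 ∧ c4 = 0 ∧ c5 = 0 ∧ c6 = 0 ∧ c7 = 0 ∧ c8 = 0 := by
  have key := coeffs_zero (ι := ι) (p := p) i 9 hK (fun j => if hj : j < 9 then (![c0, c1, c2, c3, c4, c5, c6, c7, c8] : Fin 9 → V) ⟨j, hj⟩ else 0)
    (fun t => by
      rw [← h t]
      simp [Finset.sum_range_succ])
  exact ⟨key 0 (by norm_num), key 1 (by norm_num), key 2 (by norm_num), key 3 (by norm_num), key 4 (by norm_num), key 5 (by norm_num), key 6 (by norm_num), key 7 (by norm_num), key 8 (by norm_num)⟩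

end chains

attribute [local irreducible] Cfsg.Agent.H952.F4.cr Cfsg.Agent.H952.F4.sh Cfsg.Agent.H952.F4.tf

section frame

variable {k : Type u} [Field k] [DecidableEq k] [IsAlgClosed k] {K : Type w} [Field K] [Fintype K] [DecidableEq K]
  {ι : K →+* k} {p a : ℕ} [Fact p.Prime] [CharP k p] [CharP K p]
  {ψ : SpecialLinearGroup (Fin 2) K →* ↥(Zgrp k)} {ρ ρ' : Representation k ↥(Zgrp k) (I27 → k)}

/-- no stable totally singular subspaces -/
def Nts (ψ : SpecialLinearGroup (Fin 2) K →* ↥(Zgrp k)) (ρ : Representation k ↥(Zgrp k) (I27 → k)) : Prop :=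
  ∀ W : Submodule k (I27 → k), (∀ g, ∀ x ∈ W, Rr ρ ψ g x ∈ W) → (∀ x ∈ W, sh x = 0) → W = ⊥

theorem cr_zero_right (x : I27 → k) : cr x 0 = 0 := by
  have h := cr_smul_right (0 : k) x 0
  rwa [zero_smul, zero_smul] at h

theorem cr_zero_left (x : I27 → k) : cr 0 x = 0 := by rw [cr_comm, cr_zero_right]

theorem tf_zero_right (x : I27 → k) : tf x 0 = 0 := by
  have h := tf_smul_right (0 : k) x 0
  rwa [zero_smul, zero_mul] at h

theorem tf_zero_left (x : I27 → k) : tf 0 x = 0 := by rw [tf_comm, tf_zero_right]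

theorem cr_span {S : Set (I27 → k)} {W : Submodule k (I27 → k)} (h : ∀ x ∈ S, ∀ y ∈ S, cr x y ∈ W) :
    ∀ x ∈ Submodule.span k S, ∀ y ∈ Submodule.span k S, cr x y ∈ W := by
  intro x hx y hy
  induction hx using Submodule.span_induction with
  | mem x hx =>
    induction hy using Submodule.span_induction with
    | mem y hy => exact h x hx y hy
    | zero =>
      rw [← zero_smul k (0 : I27 → k), cr_smul_right, zero_smul]
      exact W.zero_mem
    | add y z _ _ h1 h2 =>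
      rw [cr_add_right]
      exact W.add_mem h1 h2
    | smul c y _ h1 =>
      rw [cr_smul_right]
      exact W.smul_mem _ h1
  | zero =>
    rw [← zero_smul k (0 : I27 → k), cr_smul_left, zero_smul]
    exact W.zero_mem
  | add y z _ _ h1 h2 =>
    rw [cr_add_left]
    exact W.add_mem h1 h2
  | smul c y _ h1 =>
    rw [cr_smul_left]
    exact W.smul_mem _ h1

theorem sh_of_cr (h2 : (2 : k) ≠ 0) {x : I27 → k} (h : cr x x = 0) : sh x = 0 := by
  rw [cr_self, smul_eq_zero] at h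
  exact h.resolve_left h2

theorem sh_span (h2 : (2 : k) ≠ 0) {S : Set (I27 → k)} (h : ∀ x ∈ S, ∀ y ∈ S, cr x y = 0) :
    ∀ x ∈ Submodule.span k S, sh x = 0 := by
  intro x hx
  have h1 := cr_span (W := ⊥) (fun x hx y hy => (Submodule.mem_bot k).2 (h x hx y hy)) x hx x hx
  exact sh_of_cr h2 ((Submodule.mem_bot k).1 h1)

include ι in
theorem two_ne_zero' (hp : p ≠ 2) : (2 : k) ≠ 0 := by
  intro h0
  have h1 : ((2 : ℕ) : k) = 0 := by exact_mod_cast h0
  rw [CharP.cast_eq_zero_iff k p] at h1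
  exact hp ((Nat.prime_dvd_prime_iff_eq (Fact.out : p.Prime) Nat.prime_two).1 h1)

theorem cr_stab (f : Fra p a ψ ρ ρ') {S : Set (I27 → k)}
    (hS : ∀ g, ∀ x ∈ Submodule.span k S, Rr ρ ψ g x ∈ Submodule.span k S) :
    ∀ g, ∀ x ∈ Submodule.span k {z | ∃ x ∈ S, ∃ y ∈ S, z = cr x y},
      Rr ρ' ψ g x ∈ Submodule.span k {z | ∃ x ∈ S, ∃ y ∈ S, z = cr x y} := by
  intro g x hx
  refine (Submodule.map_span_le (Rr ρ' ψ g) _ _).2 ?_ (Submodule.mem_map_of_mem hx)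
  rintro _ ⟨x, hx, y, hy, rfl⟩
  rw [Rr_apply, ← pair_cr f.pair]
  refine cr_span ?_ _ (hS g x (Submodule.subset_span hx)) _ (hS g y (Submodule.subset_span hy))
  intro x hx y hy
  exact Submodule.subset_span ⟨x, hx, y, hy, rfl⟩

theorem sq_bot (f : Fra p a ψ ρ ρ') (h2 : (2 : k) ≠ 0) (nts : Nts ψ ρ) (nts' : Nts ψ ρ') {S : Set (I27 → k)}
    (hS : ∀ g, ∀ x ∈ Submodule.span k S, Rr ρ ψ g x ∈ Submodule.span k S)
    (h : ∀ x₁ ∈ S, ∀ x₂ ∈ S, ∀ x₃ ∈ S, ∀ x₄ ∈ S, cr (cr x₁ x₂) (cr x₃ x₄) = 0) : ∀ x ∈ S, x = 0 := by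
  have h1 : Submodule.span k {z | ∃ x ∈ S, ∃ y ∈ S, z = cr x y} = ⊥ := by
    refine nts' _ (cr_stab f hS) (sh_span h2 ?_)
    rintro _ ⟨x₁, hx₁, x₂, hx₂, rfl⟩ _ ⟨x₃, hx₃, x₄, hx₄, rfl⟩
    exact h x₁ hx₁ x₂ hx₂ x₃ hx₃ x₄ hx₄
  have h3 : Submodule.span k S = ⊥ := by
    refine nts _ hS (sh_span h2 fun x hx y hy => ?_)
    rw [← Submodule.mem_bot k, ← h1]
    exact Submodule.subset_span ⟨x, hx, y, hy, rfl⟩
  intro x hx
  rw [← Submodule.mem_bot k, ← h3]
  exact Submodule.subset_span hx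

/-- the form of `sq_bot` with a spanning set of the squares -/
theorem sq_bot' (f : Fra p a ψ ρ ρ') (h2 : (2 : k) ≠ 0) (nts : Nts ψ ρ) (nts' : Nts ψ ρ') {S T : Set (I27 → k)}
    (hS : ∀ g, ∀ x ∈ Submodule.span k S, Rr ρ ψ g x ∈ Submodule.span k S)
    (hT : ∀ x ∈ S, ∀ y ∈ S, cr x y ∈ Submodule.span k T) (h : ∀ y ∈ T, ∀ y' ∈ T, cr y y' = 0) : ∀ x ∈ S, x = 0 := by
  refine sq_bot f h2 nts nts' hS fun x₁ hx₁ x₂ hx₂ x₃ hx₃ x₄ hx₄ => ?_
  have h1 := cr_span (W := ⊥) (fun x hx y hy => (Submodule.mem_bot k).2 (h x hx y hy)) _ (hT x₁ hx₁ x₂ hx₂) _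
    (hT x₃ hx₃ x₄ hx₄)
  exact (Submodule.mem_bot k).1 h1

/-- the complete polarization of `(x#)# = N(x) x` -/
theorem cr4 (x y z t : I27 → k) : cr (cr x y) (cr z t) + cr (cr x z) (cr y t) + cr (cr x t) (cr y z) =
    tf (cr x y) z • t + tf (cr x y) t • z + tf (cr x z) t • y + tf (cr y z) t • x := by
  have h1 := cr_cr (x + t) y z
  have h2 := cr_cr x y z
  have h3 := cr_cr t y z
  simp only [sh_add, cr_add_left, cr_add_right, tf_add_left] at h1
  rw [← tf_cr, ← tf_cr] at h1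
  rw [← tf_cr] at h2 h3
  have e1 : tf (cr x t) y = tf (cr x y) t := by rw [tf_cr, cr_comm t y, ← tf_cr]
  have e2 : tf (cr x t) z = tf (cr x z) t := by rw [tf_cr, cr_comm t z, ← tf_cr]
  have e3 : tf (cr t y) z = tf (cr y z) t := by rw [tf_cr, tf_comm]
  rw [e1, e2, e3] at h1
  rw [e3] at h3
  have e4 : cr (cr x z) (cr y t) = cr (cr t y) (cr x z) := by rw [cr_comm (cr x z), cr_comm y t]
  have e5 : cr (cr x y) (cr z t) = cr (cr x y) (cr t z) := by rw [cr_comm z t]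
  rw [e4, e5]
  linear_combination (norm := module) h1 - h2 - h3

theorem fix_zero (f : Fra p a ψ ρ ρ') {x : I27 → k} (hu : ∀ t, ρ (ψ (u t)) x = x) (hh : ∀ b, ρ (ψ (h b)) x = x)
    (hw : ρ (ψ w) x = x) : x = 0 :=
  f.fix x (fixed_of_gen (σ := Rr ρ ψ) hu hh hw)

end frame

end Cfsg.Agent.R2.H22.Loc
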