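import Cfsg.Agent.R2.H22.L4

/-!
# L11 : `V_{p^i + p^j}` is not a submodule (helper22)
-/

set_option autoImplicit false
set_option linter.unusedSectionVars false
set_option linter.unusedSimpArgs false
set_option linter.unusedVariables false

namespace Cfsg.Agent.R2.H22.Loc

open Matrix Cfsg.Agent.H943.SL2Rel Cfsg.Agent.H943.SL2Mod Cfsg.Agent.H943.RepAdd
open Cfsg.Lie Cfsg.Agent.R2.H28.SL2
open Cfsg.Agent.ChevalleyStructure Cfsg.Agent.ChevalleyStructure.E6Form.Cubic
  Cfsg.Agent.ChevalleyStructure.E6Form.Table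
open Cfsg.Agent.ChevalleyStructure.E6Min.Basic (Zgrp)
open Cfsg.Agent.H952.F4 (sh cr tf)
open Cfsg.Agent.H952.F4.Jord
open Cfsg.Agent.H163.E6 (V V')
open Cfsg.Agent.R2.GEO (Pair crB crB_apply tfB tfB_apply)

universe u v w

attribute [local irreducible] Cfsg.Agent.H952.F4.cr Cfsg.Agent.H952.F4.sh Cfsg.Agent.H952.F4.tf

variable {k : Type u} [Field k] [DecidableEq k] [IsAlgClosed k] {K : Type w} [Field K] [Fintype K] [DecidableEq K]
  {ι : K →+* k} {p a : ℕ} [Fact p.Prime] [CharP k p] [CharP K p]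
  {ψ : SpecialLinearGroup (Fin 2) K →* ↥(Zgrp k)} {ρ ρ' : Representation k ↥(Zgrp k) (I27 → k)}

/-- the multiplication table of the square of `V_{p^i + p^j}` -/
structure T11 (y00 y01 y02 y10 y11 y12 y20 y21 y22 : I27 → k) : Prop where
  t_y00_y00 : cr y00 y00 = 0
  t_y00_y01 : cr y00 y01 = 0
  t_y00_y02 : cr y00 y02 = (-2 : k) • cr y01 y01
  t_y00_y10 : cr y00 y10 = 0
  t_y00_y11 : cr y00 y11 = 0
  t_y00_y12 : cr y00 y12 = (-2 : k) • cr y01 y11
  t_y00_y20 : cr y00 y20 = (-2 : k) • cr y10 y10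
  t_y00_y21 : cr y00 y21 = (-2 : k) • cr y10 y11
  t_y00_y22 : cr y00 y22 = (-2 : k) • cr y11 y11
  t_y01_y02 : cr y01 y02 = 0
  t_y01_y10 : cr y01 y10 = 0
  t_y01_y12 : cr y01 y12 = 0
  t_y01_y20 : cr y01 y20 = (-2 : k) • cr y10 y11
  t_y01_y22 : cr y01 y22 = (-2 : k) • cr y11 y12
  t_y02_y02 : cr y02 y02 = 0
  t_y02_y10 : cr y02 y10 = (-2 : k) • cr y01 y11
  t_y02_y11 : cr y02 y11 = 0
  t_y02_y12 : cr y02 y12 = 0
  t_y02_y20 : cr y02 y20 = (-2 : k) • cr y11 y11
  t_y02_y21 : cr y02 y21 = (-2 : k) • cr y11 y12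
  t_y02_y22 : cr y02 y22 = (-2 : k) • cr y12 y12
  t_y10_y12 : cr y10 y12 = (-1 : k) • cr y11 y11 + (-1 : k) • cr y01 y21
  t_y10_y20 : cr y10 y20 = 0
  t_y10_y21 : cr y10 y21 = 0
  t_y10_y22 : cr y10 y22 = (-2 : k) • cr y11 y21
  t_y11_y20 : cr y11 y20 = 0
  t_y11_y22 : cr y11 y22 = 0
  t_y12_y20 : cr y12 y20 = (-2 : k) • cr y11 y21
  t_y12_y21 : cr y12 y21 = 0
  t_y12_y22 : cr y12 y22 = 0
  t_y20_y20 : cr y20 y20 = 0
  t_y20_y21 : cr y20 y21 = 0
  t_y20_y22 : cr y20 y22 = (-2 : k) • cr y21 y21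
  t_y21_y22 : cr y21 y22 = 0
  t_y22_y22 : cr y22 y22 = 0

theorem T11.of {x0 x1 x2 x3 : I27 → k} (h2 : (2 : k) ≠ 0) (h3 : (3 : k) ≠ 0) (fix : cr x0 x3 = cr x1 x2)
    (L : ∀ x y z t : I27 → k, x ∈ ({x0, x1, x2, x3} : Set (I27 → k)) → y ∈ ({x0, x1, x2, x3} : Set (I27 → k)) →
      z ∈ ({x0, x1, x2, x3} : Set (I27 → k)) → t ∈ ({x0, x1, x2, x3} : Set (I27 → k)) →
      cr (cr x y) (cr z t) + cr (cr x z) (cr y t) + cr (cr x t) (cr y z) = 0) :
    T11 (cr x0 x0) (cr x0 x2) (cr x2 x2) (cr x0 x1) (cr x0 x3) (cr x2 x3) (cr x1 x1) (cr x1 x3) (cr x3 x3) := by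
  have can : ∀ (e : k) (x : I27 → k), e ≠ 0 → e • x = 0 → x = 0 := fun e x he hx => (smul_eq_zero.1 hx).resolve_left he
  have s3 : (3 : k) ≠ 0 := h3
  have s6 : (6 : k) ≠ 0 := by
    rw [show (6 : k) = 2 * 3 by norm_num]
    exact mul_ne_zero h2 h3
  have c10 := cr_comm x1 x0
  have c20 := cr_comm x2 x0
  have c21 := cr_comm x2 x1
  have c30 := cr_comm x3 x0
  have c31 := cr_comm x3 x1
  have c32 := cr_comm x3 x2
  have fix' : cr x1 x2 = cr x0 x3 := fix.symm
  have l0000 := L x0 x0 x0 x0 (by simp) (by simp) (by simp) (by simp)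
  have l0001 := L x0 x0 x0 x1 (by simp) (by simp) (by simp) (by simp)
  have l0002 := L x0 x0 x0 x2 (by simp) (by simp) (by simp) (by simp)
  have l0003 := L x0 x0 x0 x3 (by simp) (by simp) (by simp) (by simp)
  have l0011 := L x0 x0 x1 x1 (by simp) (by simp) (by simp) (by simp)
  have l0012 := L x0 x0 x1 x2 (by simp) (by simp) (by simp) (by simp)
  have l0013 := L x0 x0 x1 x3 (by simp) (by simp) (by simp) (by simp)
  have l0022 := L x0 x0 x2 x2 (by simp) (by simp) (by simp) (by simp)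
  have l0023 := L x0 x0 x2 x3 (by simp) (by simp) (by simp) (by simp)
  have l0033 := L x0 x0 x3 x3 (by simp) (by simp) (by simp) (by simp)
  have l0111 := L x0 x1 x1 x1 (by simp) (by simp) (by simp) (by simp)
  have l0112 := L x0 x1 x1 x2 (by simp) (by simp) (by simp) (by simp)
  have l0113 := L x0 x1 x1 x3 (by simp) (by simp) (by simp) (by simp)
  have l0122 := L x0 x1 x2 x2 (by simp) (by simp) (by simp) (by simp)
  have l0123 := L x0 x1 x2 x3 (by simp) (by simp) (by simp) (by simp)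
  have l0133 := L x0 x1 x3 x3 (by simp) (by simp) (by simp) (by simp)
  have l0222 := L x0 x2 x2 x2 (by simp) (by simp) (by simp) (by simp)
  have l0223 := L x0 x2 x2 x3 (by simp) (by simp) (by simp) (by simp)
  have l0233 := L x0 x2 x3 x3 (by simp) (by simp) (by simp) (by simp)
  have l0333 := L x0 x3 x3 x3 (by simp) (by simp) (by simp) (by simp)
  have l1111 := L x1 x1 x1 x1 (by simp) (by simp) (by simp) (by simp)
  have l1112 := L x1 x1 x1 x2 (by simp) (by simp) (by simp) (by simp)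
  have l1113 := L x1 x1 x1 x3 (by simp) (by simp) (by simp) (by simp)
  have l1122 := L x1 x1 x2 x2 (by simp) (by simp) (by simp) (by simp)
  have l1123 := L x1 x1 x2 x3 (by simp) (by simp) (by simp) (by simp)
  have l1133 := L x1 x1 x3 x3 (by simp) (by simp) (by simp) (by simp)
  have l1222 := L x1 x2 x2 x2 (by simp) (by simp) (by simp) (by simp)
  have l1223 := L x1 x2 x2 x3 (by simp) (by simp) (by simp) (by simp)
  have l1233 := L x1 x2 x3 x3 (by simp) (by simp) (by simp) (by simp)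
  have l1333 := L x1 x3 x3 x3 (by simp) (by simp) (by simp) (by simp)
  have l2222 := L x2 x2 x2 x2 (by simp) (by simp) (by simp) (by simp)
  have l2223 := L x2 x2 x2 x3 (by simp) (by simp) (by simp) (by simp)
  have l2233 := L x2 x2 x3 x3 (by simp) (by simp) (by simp) (by simp)
  have l2333 := L x2 x3 x3 x3 (by simp) (by simp) (by simp) (by simp)
  have l3333 := L x3 x3 x3 x3 (by simp) (by simp) (by simp) (by simp)
  simp only [c10, c20, c30, c21, c31, c32, fix'] at l0000 l0001 l0002 l0003 l0011 l0012 l0013 l0022 l0023 l0033 l0111 l0112 l0113 l0122 l0123 l0133 l0222 l0223 l0233 l0333 l1111 l1112 l1113 l1122 l1123 l1133 l1222 l1223 l1233 l1333 l2222 l2223 l2233 l2333 l3333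
  clear L
  generalize cr x0 x0 = y00 at *
  generalize cr x0 x2 = y01 at *
  generalize cr x2 x2 = y02 at *
  generalize cr x0 x1 = y10 at *
  generalize cr x0 x3 = y11 at *
  generalize cr x2 x3 = y12 at *
  generalize cr x1 x1 = y20 at *
  generalize cr x1 x3 = y21 at *
  generalize cr x3 x3 = y22 at *
  simp only [cr_comm y01 y00, cr_comm y02 y00, cr_comm y02 y01, cr_comm y10 y00, cr_comm y10 y01, cr_comm y10 y02, cr_comm y11 y00, cr_comm y11 y01, cr_comm y11 y02, cr_comm y11 y10, cr_comm y12 y00, cr_comm y12 y01, cr_comm y12 y02, cr_comm y12 y10, cr_comm y12 y11, cr_comm y20 y00, cr_comm y20 y01, cr_comm y20 y02, cr_comm y20 y10, cr_comm y20 y11, cr_comm y20 y12, cr_comm y21 y00, cr_comm y21 y01, cr_comm y21 y02, cr_comm y21 y10, cr_comm y21 y11, cr_comm y21 y12, cr_comm y21 y20, cr_comm y22 y00, cr_comm y22 y01, cr_comm y22 y02, cr_comm y22 y10, cr_comm y22 y11, cr_comm y22 y12, cr_comm y22 y20, cr_comm y22 y21] at l0000 l0001 l0002 l0003 l0011 l0012 l0013 l0022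 l0023 l0033 l0111 l0112 l0113 l0122 l0123 l0133 l0222 l0223 l0233 l0333 l1111 l1112 l1113 l1122 l1123 l1133 l1222 l1223 l1233 l1333 l2222 l2223 l2233 l2333 l3333
  have t_y00_y00 : cr y00 y00 = 0 := can (3 : k) _ s3 (by linear_combination (norm := module) (1 : k) • l0000)
  have t_y00_y01 : cr y00 y01 = 0 := can (3 : k) _ s3 (by linear_combination (norm := module) (1 : k) • l0002)
  have t_y00_y02 : cr y00 y02 = (-2 : k) • cr y01 y01 := by linear_combination (norm := module) (1 : k) • l0022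
  have t_y00_y10 : cr y00 y10 = 0 := can (3 : k) _ s3 (by linear_combination (norm := module) (1 : k) • l0001)
  have t_y00_y11 : cr y00 y11 = 0 := can (3 : k) _ s3 (by linear_combination (norm := module) (1 : k) • l0003)
  have t_y00_y12 : cr y00 y12 = (-2 : k) • cr y01 y11 := by linear_combination (norm := module) (1 : k) • l0023
  have t_y00_y20 : cr y00 y20 = (-2 : k) • cr y10 y10 := by linear_combination (norm := module) (1 : k) • l0011
  have t_y00_y21 : cr y00 y21 = (-2 : k) • cr y10 y11 := by linear_combination (norm := module) (1 : k) • l0013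
  have t_y00_y22 : cr y00 y22 = (-2 : k) • cr y11 y11 := by linear_combination (norm := module) (1 : k) • l0033
  have t_y01_y02 : cr y01 y02 = 0 := can (3 : k) _ s3 (by linear_combination (norm := module) (1 : k) • l0222)
  have t_y01_y10 : cr y01 y10 = 0 := can (6 : k) _ s6 (by linear_combination (norm := module) (-1 : k) • l0003 + (3 : k) • l0012)
  have t_y01_y12 : cr y01 y12 = 0 := can (6 : k) _ s6 (by linear_combination (norm := module) (3 : k) • l0223 + (-1 : k) • l1222)
  have t_y01_y20 : cr y01 y20 = (-2 : k) • cr y10 y11 := by linear_combination (norm := module) (1 : k) • l0112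
  have t_y01_y22 : cr y01 y22 = (-2 : k) • cr y11 y12 := by linear_combination (norm := module) (1 : k) • l0233
  have t_y02_y02 : cr y02 y02 = 0 := can (3 : k) _ s3 (by linear_combination (norm := module) (1 : k) • l2222)
  have t_y02_y10 : cr y02 y10 = (-2 : k) • cr y01 y11 := by linear_combination (norm := module) (1 : k) • l0122
  have t_y02_y11 : cr y02 y11 = 0 := can (3 : k) _ s3 (by linear_combination (norm := module) (1 : k) • l1222)
  have t_y02_y12 : cr y02 y12 = 0 := can (3 : k) _ s3 (by linear_combination (norm := module) (1 : k) • l2223)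
  have t_y02_y20 : cr y02 y20 = (-2 : k) • cr y11 y11 := by linear_combination (norm := module) (1 : k) • l1122
  have t_y02_y21 : cr y02 y21 = (-2 : k) • cr y11 y12 := by linear_combination (norm := module) (1 : k) • l1223
  have t_y02_y22 : cr y02 y22 = (-2 : k) • cr y12 y12 := by linear_combination (norm := module) (1 : k) • l2233
  have t_y10_y12 : cr y10 y12 = (-1 : k) • cr y11 y11 + (-1 : k) • cr y01 y21 := by linear_combination (norm := module) (1 : k) • l0123
  have t_y10_y20 : cr y10 y20 = 0 := can (3 : k) _ s3 (by linear_combination (norm := module) (1 : k) • l0111)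
  have t_y10_y21 : cr y10 y21 = 0 := can (6 : k) _ s6 (by linear_combination (norm := module) (3 : k) • l0113 + (-1 : k) • l1112)
  have t_y10_y22 : cr y10 y22 = (-2 : k) • cr y11 y21 := by linear_combination (norm := module) (1 : k) • l0133
  have t_y11_y20 : cr y11 y20 = 0 := can (3 : k) _ s3 (by linear_combination (norm := module) (1 : k) • l1112)
  have t_y11_y22 : cr y11 y22 = 0 := can (3 : k) _ s3 (by linear_combination (norm := module) (1 : k) • l0333)
  have t_y12_y20 : cr y12 y20 = (-2 : k) • cr y11 y21 := by linear_combination (norm := module) (1 : k) • l1123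
  have t_y12_y21 : cr y12 y21 = 0 := can (6 : k) _ s6 (by linear_combination (norm := module) (-1 : k) • l0333 + (3 : k) • l1233)
  have t_y12_y22 : cr y12 y22 = 0 := can (3 : k) _ s3 (by linear_combination (norm := module) (1 : k) • l2333)
  have t_y20_y20 : cr y20 y20 = 0 := can (3 : k) _ s3 (by linear_combination (norm := module) (1 : k) • l1111)
  have t_y20_y21 : cr y20 y21 = 0 := can (3 : k) _ s3 (by linear_combination (norm := module) (1 : k) • l1113)
  have t_y20_y22 : cr y20 y22 = (-2 : k) • cr y21 y21 := by linear_combination (norm := module) (1 : k) • l1133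
  have t_y21_y22 : cr y21 y22 = 0 := can (3 : k) _ s3 (by linear_combination (norm := module) (1 : k) • l1333)
  have t_y22_y22 : cr y22 y22 = 0 := can (3 : k) _ s3 (by linear_combination (norm := module) (1 : k) • l3333)
  exact ⟨t_y00_y00, t_y00_y01, t_y00_y02, t_y00_y10, t_y00_y11, t_y00_y12, t_y00_y20, t_y00_y21, t_y00_y22, t_y01_y02, t_y01_y10, t_y01_y12, t_y01_y20, t_y01_y22, t_y02_y02, t_y02_y10, t_y02_y11, t_y02_y12, t_y02_y20, t_y02_y21, t_y02_y22, t_y10_y12, t_y10_y20, t_y10_y21, t_y10_y22, t_y11_y20, t_y11_y22, t_y12_y20, t_y12_y21, t_y12_y22, t_y20_y20, t_y20_y21, t_y20_y22, t_y21_y22, t_y22_y22⟩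

end Cfsg.Agent.R2.H22.Loc
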