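import Cfsg.Agent.R2.H22.L11

/-!
# L11 : `V_{p^i + p^j}` is not a submodule, second part (helper22)
-/

set_option autoImplicit false
set_option linter.unusedSectionVars false
set_option linter.unusedSimpArgs false
set_option linter.unusedVariables false

namespace Cfsg.Agent.R2.H22.Loc

open Matrix Cfsg.Agent.H943.SL2Rel Cfsg.Agent.H943.SL2Mod Cfsg.Agent.H943.RepAdd
open Cfsg.Lie Cfsg.Agent.R2.H28.SL2
open Cfsg.Agent.ChevalleyStructure Cfsg.Agent.ChevalleyStructure.E6Form.Cubic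
  Cfsg.Agent.ChevalleyStructure.E6Form.Table
open Cfsg.Agent.ChevalleyStructure.E6Min.Basic (Zgrp)
open Cfsg.Agent.H952.F4 (sh cr tf)
open Cfsg.Agent.H952.F4.Jord
open Cfsg.Agent.H163.E6 (V V')
open Cfsg.Agent.R2.GEO (Pair crB crB_apply tfB tfB_apply)

universe u v w

attribute [local irreducible] Cfsg.Agent.H952.F4.cr Cfsg.Agent.H952.F4.sh Cfsg.Agent.H952.F4.tf

variable {k : Type u} [Field k] [DecidableEq k] [IsAlgClosed k] {K : Type w} [Field K] [Fintype K] [DecidableEq K]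
  {ι : K →+* k} {p a : ℕ} [Fact p.Prime] [CharP k p] [CharP K p]
  {ψ : SpecialLinearGroup (Fin 2) K →* ↥(Zgrp k)} {ρ ρ' : Representation k ↥(Zgrp k) (I27 → k)}

section num

/-- a unit `b` with `b ^ N ≠ 1` -/
theorem exists_zpow {N : ℤ} (h0 : N ≠ 0) (hN : N.natAbs < Fintype.card K - 1) : ∃ b : Kˣ, (ι (b : K)) ^ N ≠ 1 := by
  classical
  by_contra hcon
  push Not at hcon
  have h1 : ∀ b : Kˣ, b ^ N.natAbs = 1 := by
    intro b
    have h2 := hcon b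
    rw [← map_zpow₀] at h2
    have h3 : (b : K) ^ N = 1 := ι.injective (by rw [h2, map_one])
    have h4 : b ^ N = 1 := by
      apply Units.ext
      rw [Units.val_zpow_eq_zpow_val, h3, Units.val_one]
    rcases Int.natAbs_eq N with h5 | h5
    · rw [h5, zpow_natCast] at h4
      exact h4
    · rw [h5, _root_.zpow_neg, zpow_natCast, inv_eq_one] at h4
      exact h4
  have h2 := IsCyclic.card_pow_eq_one_le (α := Kˣ) (Int.natAbs_pos.2 h0)
  rw [Finset.filter_true_of_mem (fun b _ => h1 b), Finset.card_univ, Fintype.card_units] at h2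
  omega

theorem num_lt {p a i j : ℕ} (hp : 5 ≤ p) (hij : i ≠ j) (hi : i < a) (hj : j < a) : 3 * (p ^ i + p ^ j) < p ^ a - 1 := by
  have key : ∀ {i j : ℕ}, i < j → j < a → 3 * (p ^ i + p ^ j) < p ^ a - 1 := by
    intro i j hij hj
    obtain ⟨d, rfl⟩ : ∃ d, a = d + 2 := ⟨a - 2, by omega⟩
    have h1 : p ^ i ≤ p ^ d := Nat.pow_le_pow_right (by omega) (by omega)
    have h2 : p ^ j ≤ p ^ (d + 1) := Nat.pow_le_pow_right (by omega) (by omega)
    have h3 : p ^ (d + 1) = p * p ^ d := pow_succ' p d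
    have h4 : p ^ (d + 2) = p * (p * p ^ d) := by rw [pow_succ', pow_succ']
    have h5 : 0 < p ^ d := Nat.pow_pos (by omega)
    have h6 : 25 * p ^ d ≤ p * (p * p ^ d) := by
      have : 5 * (5 * p ^ d) ≤ p * (p * p ^ d) := Nat.mul_le_mul hp (Nat.mul_le_mul_right _ hp)
      omega
    have h7 : 5 * (p * p ^ d) ≤ p * (p * p ^ d) := Nat.mul_le_mul_right _ hp
    omega
  rcases Nat.lt_or_gt_of_ne hij with h | h
  · exact key h hj
  · rw [add_comm]
    exact key h hi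

theorem num_ne {p i j : ℕ} (hp : 5 ≤ p) (hij : i ≠ j) {E F : ℤ} (hE : E ≠ 0) (hF : F ≠ 0) (hE3 : |E| ≤ 3)
    (hF3 : |F| ≤ 3) : (p : ℤ) ^ i * E + (p : ℤ) ^ j * F ≠ 0 := by
  have key : ∀ {i j : ℕ} {E F : ℤ}, E ≠ 0 → F ≠ 0 → |E| ≤ 3 → i < j → (p : ℤ) ^ i * E + (p : ℤ) ^ j * F ≠ 0 := by
    intro i j E F hE hF hE3 hij h0
    obtain ⟨d, rfl⟩ : ∃ d, j = i + (d + 1) := ⟨j - i - 1, by omega⟩
    have hp0 : (p : ℤ) ≠ 0 := by
      have : (5 : ℤ) ≤ p := by exact_mod_cast hp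
      omega
    have h1 : (p : ℤ) ^ i * (E + (p : ℤ) ^ (d + 1) * F) = 0 := by
      rw [← h0, pow_add]
      ring
    have h2 := (mul_eq_zero.1 h1).resolve_left (pow_ne_zero _ hp0)
    have h3 : |E| = (p : ℤ) ^ (d + 1) * |F| := by
      have h4 : E = -((p : ℤ) ^ (d + 1) * F) := by linear_combination h2
      rw [h4, abs_neg, abs_mul, abs_pow, abs_of_nonneg (by positivity : (0 : ℤ) ≤ p)]
    have h5 : (5 : ℤ) ≤ (p : ℤ) ^ (d + 1) := by
      have h6 : p ^ 1 ≤ p ^ (d + 1) := Nat.pow_le_pow_right (by omega) (by omega)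
      rw [pow_one] at h6
      have h7 : 5 ≤ p ^ (d + 1) := by omega
      exact_mod_cast h7
    have h8 : 1 ≤ |F| := Int.one_le_abs hF
    nlinarith
  rcases Nat.lt_or_gt_of_ne hij with h | h
  · exact key hE hF hE3 h
  · rw [add_comm]
    exact key hF hE hF3 h

/-- the weights of the trilinear form on `V_{p^i + p^j}` -/
theorem exists_pair {i j : ℕ} (hK : Fintype.card K = p ^ a) (hp : 5 ≤ p) (hij : i ≠ j) (hi : i < a) (hj : j < a) {E F : ℤ}
    (hE : E ≠ 0) (hF : F ≠ 0) (hE3 : |E| ≤ 3) (hF3 : |F| ≤ 3) :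
    ∃ b : Kˣ, (ι (b : K) ^ p ^ i) ^ E * (ι (b : K) ^ p ^ j) ^ F ≠ 1 := by
  have h1 : (p : ℤ) ^ i * E + (p : ℤ) ^ j * F ≠ 0 := num_ne hp hij hE hF hE3 hF3
  have h2 := num_lt hp hij hi hj
  obtain ⟨b, hb⟩ := exists_zpow (ι := ι) h1 (by
    rw [hK]
    refine lt_of_le_of_lt ?_ h2
    have h3 : |(p : ℤ) ^ i * E + (p : ℤ) ^ j * F| ≤ (p : ℤ) ^ i * 3 + (p : ℤ) ^ j * 3 := by
      refine (abs_add_le _ _).trans (add_le_add ?_ ?_)
      · rw [abs_mul, abs_of_nonneg (by positivity : (0 : ℤ) ≤ (p : ℤ) ^ i)]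
        exact mul_le_mul_of_nonneg_left hE3 (by positivity)
      · rw [abs_mul, abs_of_nonneg (by positivity : (0 : ℤ) ≤ (p : ℤ) ^ j)]
        exact mul_le_mul_of_nonneg_left hF3 (by positivity)
    have h4 : (((p : ℤ) ^ i * E + (p : ℤ) ^ j * F).natAbs : ℤ) ≤ (3 * (p ^ i + p ^ j) : ℕ) := by
      rw [Int.natCast_natAbs]
      refine h3.trans (le_of_eq ?_)
      push_cast
      ring
    exact_mod_cast h4)
  refine ⟨b, ?_⟩
  rwa [← zpow_natCast, ← zpow_natCast, ← _root_.zpow_mul, ← _root_.zpow_mul, ← zpow_add₀ ((map_ne_zero ι).2 b.ne_zero), Nat.cast_pow,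
    Nat.cast_pow]

end num

section pair

variable {i j : ℕ} {x0 x1 x2 x3 : I27 → k}

/-- the relations of the basis `v₀₀, v₁₀, v₀₁, v₁₁` of `V_{p^i + p^j}` -/
structure P11 (ι : K →+* k) (p : ℕ) (ρ : Representation k ↥(Zgrp k) (I27 → k))
    (ψ : SpecialLinearGroup (Fin 2) K →* ↥(Zgrp k)) (i j : ℕ) (x0 x1 x2 x3 : I27 → k) : Prop where
  u0 : ∀ t, ρ (ψ (Cfsg.Agent.H943.SL2Rel.u t)) x0 =
    x0 + (ι t ^ p ^ i) • x1 + (ι t ^ p ^ j) • x2 + (ι t ^ p ^ i * ι t ^ p ^ j) • x3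
  u1 : ∀ t, ρ (ψ (Cfsg.Agent.H943.SL2Rel.u t)) x1 = x1 + (ι t ^ p ^ j) • x3
  u2 : ∀ t, ρ (ψ (Cfsg.Agent.H943.SL2Rel.u t)) x2 = x2 + (ι t ^ p ^ i) • x3
  u3 : ∀ t, ρ (ψ (Cfsg.Agent.H943.SL2Rel.u t)) x3 = x3
  h0 : ∀ b : Kˣ, ρ (ψ (Cfsg.Agent.H943.SL2Rel.h b)) x0 = ((ι b ^ p ^ i)⁻¹ * (ι b ^ p ^ j)⁻¹) • x0
  h1 : ∀ b : Kˣ, ρ (ψ (Cfsg.Agent.H943.SL2Rel.h b)) x1 = ((ι b ^ p ^ i) * (ι b ^ p ^ j)⁻¹) • x1
  h2 : ∀ b : Kˣ, ρ (ψ (Cfsg.Agent.H943.SL2Rel.h b)) x2 = ((ι b ^ p ^ i)⁻¹ * (ι b ^ p ^ j)) • x2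
  h3 : ∀ b : Kˣ, ρ (ψ (Cfsg.Agent.H943.SL2Rel.h b)) x3 = ((ι b ^ p ^ i) * (ι b ^ p ^ j)) • x3
  w0 : ρ (ψ Cfsg.Agent.H943.SL2Rel.w) x0 = x3
  w1 : ρ (ψ Cfsg.Agent.H943.SL2Rel.w) x1 = -x2
  w2 : ρ (ψ Cfsg.Agent.H943.SL2Rel.w) x2 = -x1
  w3 : ρ (ψ Cfsg.Agent.H943.SL2Rel.w) x3 = x0

theorem P11.swap (P : P11 ι p ρ ψ i j x0 x1 x2 x3) : P11 ι p ρ ψ j i x0 x2 x1 x3 where
  u0 t := by
    rw [P.u0]
    module
  u1 t := P.u2 t
  u2 t := P.u1 t
  u3 t := P.u3 t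
  h0 b := by rw [P.h0, mul_comm]
  h1 b := by rw [P.h2, mul_comm]
  h2 b := by rw [P.h1, mul_comm]
  h3 b := by rw [P.h3, mul_comm]
  w0 := P.w0
  w1 := P.w2
  w2 := P.w1
  w3 := P.w3

theorem P11.fix (P : P11 ι p ρ ψ i j x0 x1 x2 x3) (f : Fra p a ψ ρ ρ') : cr x0 x3 = cr x1 x2 := by
  have hb : ∀ (n : ℕ) (b : Kˣ), (ι (b : K) ^ n) ≠ 0 := fun n b => pow_ne_zero _ ((map_ne_zero ι).2 b.ne_zero)
  have h1 : cr x0 x3 - cr x1 x2 = 0 := by
    refine fix_zero f.swap (fun t => ?_) (fun b => ?_) ?_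
    · rw [map_sub, ← pair_cr f.pair, ← pair_cr f.pair, P.u0, P.u1, P.u2, P.u3]
      simp only [cr_add_left, cr_add_right, cr_smul_left, cr_smul_right]
      rw [cr_comm x3 x2]
      module
    · rw [map_sub, ← pair_cr f.pair, ← pair_cr f.pair, P.h0, P.h1, P.h2, P.h3]
      simp only [cr_smul_left, cr_smul_right, smul_smul]
      have e1 : (ι (b : K) ^ p ^ i)⁻¹ * (ι (b : K) ^ p ^ j)⁻¹ * (ι (b : K) ^ p ^ i * ι (b : K) ^ p ^ j) = 1 := by
        have h1 := hb (p ^ i) b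
        have h2 := hb (p ^ j) b
        field_simp
      have e2 : ι (b : K) ^ p ^ i * (ι (b : K) ^ p ^ j)⁻¹ * ((ι (b : K) ^ p ^ i)⁻¹ * ι (b : K) ^ p ^ j) = 1 := by
        have h1 := hb (p ^ i) b
        have h2 := hb (p ^ j) b
        field_simp
      rw [mul_comm (ι (b : K) ^ p ^ i * ι (b : K) ^ p ^ j), e1]
      first | rw [e2, one_smul, one_smul] | rw [mul_comm ((ι (b : K) ^ p ^ i)⁻¹ * ι (b : K) ^ p ^ j), e2, one_smul, one_smul]
    · rw [map_sub, ← pair_cr f.pair, ← pair_cr f.pair, P.w0, P.w1, P.w2, P.w3]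
      rw [← neg_one_smul k x1, ← neg_one_smul k x2, cr_smul_left, cr_smul_right, cr_comm x3 x0, cr_comm x2 x1]
      module
  exact sub_eq_zero.1 h1

/-- the trilinear form vanishes -/
theorem P11.tri (P : P11 ι p ρ ψ i j x0 x1 x2 x3) (f : Fra p a ψ ρ ρ') (hp : 5 ≤ p) (hij : i ≠ j) (hi : i < a)
    (hj : j < a) : ∀ x ∈ ({x0, x1, x2, x3} : Set (I27 → k)), ∀ y ∈ ({x0, x1, x2, x3} : Set (I27 → k)),
      ∀ z ∈ ({x0, x1, x2, x3} : Set (I27 → k)), tf (cr x y) z = 0 := by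
  have hb : ∀ (n : ℕ) (b : Kˣ), (ι (b : K) ^ n) ≠ 0 := fun n b => pow_ne_zero _ ((map_ne_zero ι).2 b.ne_zero)
  have hw : ∀ x ∈ ({x0, x1, x2, x3} : Set (I27 → k)), ∃ E F : ℤ, (E = 1 ∨ E = -1) ∧ (F = 1 ∨ F = -1) ∧
      ∀ b : Kˣ, ρ (ψ (Cfsg.Agent.H943.SL2Rel.h b)) x = ((ι (b : K) ^ p ^ i) ^ E * (ι (b : K) ^ p ^ j) ^ F) • x := by
    intro x hx
    simp only [Set.mem_insert_iff, Set.mem_singleton_iff] at hx
    rcases hx with rfl | rfl | rfl | rfl
    · refine ⟨-1, -1, Or.inr rfl, Or.inr rfl, fun b => ?_⟩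
      rw [P.h0, _root_.zpow_neg_one, _root_.zpow_neg_one]
    · refine ⟨1, -1, Or.inl rfl, Or.inr rfl, fun b => ?_⟩
      rw [P.h1, _root_.zpow_neg_one, zpow_one]
    · refine ⟨-1, 1, Or.inr rfl, Or.inl rfl, fun b => ?_⟩
      rw [P.h2, _root_.zpow_neg_one, zpow_one]
    · refine ⟨1, 1, Or.inl rfl, Or.inl rfl, fun b => ?_⟩
      rw [P.h3, zpow_one, zpow_one]
  intro x hx y hy z hz
  obtain ⟨E1, F1, hE1, hF1, h1⟩ := hw x hx
  obtain ⟨E2, F2, hE2, hF2, h2⟩ := hw y hy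
  obtain ⟨E3, F3, hE3, hF3, h3⟩ := hw z hz
  have hE : E1 + E2 + E3 ≠ 0 ∧ |E1 + E2 + E3| ≤ 3 := by
    rcases hE1 with rfl | rfl <;> rcases hE2 with rfl | rfl <;> rcases hE3 with rfl | rfl <;> decide
  have hF : F1 + F2 + F3 ≠ 0 ∧ |F1 + F2 + F3| ≤ 3 := by
    rcases hF1 with rfl | rfl <;> rcases hF2 with rfl | rfl <;> rcases hF3 with rfl | rfl <;> decide
  obtain ⟨b, hne⟩ := exists_pair (ι := ι) (p := p) f.card hp hij hi hj hE.1 hF.1 hE.2 hF.2
  have h := tri_inv f (Cfsg.Agent.H943.SL2Rel.h b) x y z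
  rw [h1, h2, h3, cr_smul_left, cr_smul_right, tf_smul_left, tf_smul_left, tf_smul_right] at h
  have h4 : ((ι (b : K) ^ p ^ i) ^ (E1 + E2 + E3) * (ι (b : K) ^ p ^ j) ^ (F1 + F2 + F3) - 1) * tf (cr x y) z = 0 := by
    rw [zpow_add₀ (hb _ b), zpow_add₀ (hb _ b), zpow_add₀ (hb _ b), zpow_add₀ (hb _ b)]
    linear_combination h
  exact (mul_eq_zero.1 h4).resolve_left (sub_ne_zero.2 hne)


/-- the components `P` vanish -/
theorem P11.pzero (P : P11 ι p ρ ψ i j x0 x1 x2 x3) (f : Fra p a ψ ρ ρ') (h5 : 5 ≤ p) (h9 : 9 ≤ Fintype.card K)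
    (nts : Nts ψ ρ) (nts' : Nts ψ ρ') (T : T11 (cr x0 x0) (cr x0 x2) (cr x2 x2) (cr x0 x1) (cr x0 x3) (cr x2 x3) (cr x1 x1) (cr x1 x3) (cr x3 x3)) :
    cr (cr x0 x2) (cr x0 x2) = 0 ∧ cr (cr x0 x2) (cr x0 x3) = 0 ∧
      (2 : k) • cr (cr x0 x3) (cr x0 x3) + cr (cr x0 x2) (cr x1 x3) = 0 ∧ cr (cr x0 x3) (cr x1 x3) = 0 ∧
      cr (cr x1 x3) (cr x1 x3) = 0 := by
  have h2 : (2 : k) ≠ 0 := two_ne_zero' (ι := ι) f.odd
  have h3 : (3 : k) ≠ 0 := by
    intro h0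
    have h1 : ((3 : ℕ) : k) = 0 := by exact_mod_cast h0
    rw [CharP.cast_eq_zero_iff k p] at h1
    have := (Nat.prime_dvd_prime_iff_eq (Fact.out : p.Prime) Nat.prime_three).1 h1
    omega
  have can : ∀ (e : k) (x : I27 → k), e ≠ 0 → e • x = 0 → x = 0 := fun e x he hx => (smul_eq_zero.1 hx).resolve_left he
  have hb : ∀ (n : ℕ) (b : Kˣ), (ι (b : K) ^ n) ≠ 0 := fun n b => pow_ne_zero _ ((map_ne_zero ι).2 b.ne_zero)
  have W' : ∀ x y, cr (ρ (ψ Cfsg.Agent.H943.SL2Rel.w) x) (ρ (ψ Cfsg.Agent.H943.SL2Rel.w) y) = ρ' (ψ Cfsg.Agent.H943.SL2Rel.w) (cr x y) := pair_cr f.pair _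
  have W : ∀ x y, cr (ρ' (ψ Cfsg.Agent.H943.SL2Rel.w) x) (ρ' (ψ Cfsg.Agent.H943.SL2Rel.w) y) = ρ (ψ Cfsg.Agent.H943.SL2Rel.w) (cr x y) := pair_cr f.pair.swap _
  have U' : ∀ t x y, cr (ρ (ψ (Cfsg.Agent.H943.SL2Rel.u t)) x) (ρ (ψ (Cfsg.Agent.H943.SL2Rel.u t)) y) = ρ' (ψ (Cfsg.Agent.H943.SL2Rel.u t)) (cr x y) := fun t => pair_cr f.pair _
  have U : ∀ t x y, cr (ρ' (ψ (Cfsg.Agent.H943.SL2Rel.u t)) x) (ρ' (ψ (Cfsg.Agent.H943.SL2Rel.u t)) y) = ρ (ψ (Cfsg.Agent.H943.SL2Rel.u t)) (cr x y) := fun t => pair_cr f.pair.swap _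
  have H' : ∀ b x y, cr (ρ (ψ (Cfsg.Agent.H943.SL2Rel.h b)) x) (ρ (ψ (Cfsg.Agent.H943.SL2Rel.h b)) y) = ρ' (ψ (Cfsg.Agent.H943.SL2Rel.h b)) (cr x y) := fun t => pair_cr f.pair _
  have H : ∀ b x y, cr (ρ' (ψ (Cfsg.Agent.H943.SL2Rel.h b)) x) (ρ' (ψ (Cfsg.Agent.H943.SL2Rel.h b)) y) = ρ (ψ (Cfsg.Agent.H943.SL2Rel.h b)) (cr x y) := fun t => pair_cr f.pair.swap _
  have fix' : cr x1 x2 = cr x0 x3 := (P.fix f).symm
  have c10 := cr_comm x1 x0
  have c20 := cr_comm x2 x0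
  have c21 := cr_comm x2 x1
  have c30 := cr_comm x3 x0
  have c31 := cr_comm x3 x1
  have c32 := cr_comm x3 x2
  have u00 : ∀ t, ρ' (ψ (Cfsg.Agent.H943.SL2Rel.u t)) (cr x0 x0) = (cr x0 x0) + (2 * ι t ^ p ^ i) • (cr x0 x1) + ((ι t ^ p ^ i) ^ 2) • (cr x1 x1) + (2 * ι t ^ p ^ j) • (cr x0 x2) + (4 * ι t ^ p ^ i * ι t ^ p ^ j) • (cr x0 x3) + (2 * (ι t ^ p ^ i) ^ 2 * ι t ^ p ^ j) • (cr x1 x3) + ((ι t ^ p ^ j) ^ 2) • (cr x2 x2) + (2 * ι t ^ p ^ i * (ι t ^ p ^ j) ^ 2) • (cr x2 x3) + ((ι t ^ p ^ i) ^ 2 * (ι t ^ p ^ j) ^ 2) • (cr x3 x3) := by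
    intro t
    rw [← U', P.u0]
    try simp only [cr_add_left, cr_add_right, cr_smul_left, cr_smul_right, c10, c20, c21, c30, c31, c32, fix']
    try module
  have u01 : ∀ t, ρ' (ψ (Cfsg.Agent.H943.SL2Rel.u t)) (cr x0 x2) = (cr x0 x2) + (2 * ι t ^ p ^ i) • (cr x0 x3) + ((ι t ^ p ^ i) ^ 2) • (cr x1 x3) + (ι t ^ p ^ j) • (cr x2 x2) + (2 * ι t ^ p ^ i * ι t ^ p ^ j) • (cr x2 x3) + ((ι t ^ p ^ i) ^ 2 * ι t ^ p ^ j) • (cr x3 x3) := by
    intro t
    rw [← U', P.u0, P.u2]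
    try simp only [cr_add_left, cr_add_right, cr_smul_left, cr_smul_right, c10, c20, c21, c30, c31, c32, fix']
    try module
  have u02 : ∀ t, ρ' (ψ (Cfsg.Agent.H943.SL2Rel.u t)) (cr x2 x2) = (cr x2 x2) + (2 * ι t ^ p ^ i) • (cr x2 x3) + ((ι t ^ p ^ i) ^ 2) • (cr x3 x3) := by
    intro t
    rw [← U', P.u2]
    try simp only [cr_add_left, cr_add_right, cr_smul_left, cr_smul_right, c10, c20, c21, c30, c31, c32, fix']
    try module
  have u10 : ∀ t, ρ' (ψ (Cfsg.Agent.H943.SL2Rel.u t)) (cr x0 x1) = (cr x0 x1) + (ι t ^ p ^ i) • (cr x1 x1) + (2 * ι t ^ p ^ j) • (cr x0 x3) + (2 * ι t ^ p ^ i * ι t ^ p ^ j) • (cr x1 x3) + ((ι t ^ p ^ j) ^ 2) • (cr x2 x3) + (ι t ^ p ^ i * (ι t ^ p ^ j) ^ 2) • (cr x3 x3) := by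
    intro t
    rw [← U', P.u0, P.u1]
    try simp only [cr_add_left, cr_add_right, cr_smul_left, cr_smul_right, c10, c20, c21, c30, c31, c32, fix']
    try module
  have u11 : ∀ t, ρ' (ψ (Cfsg.Agent.H943.SL2Rel.u t)) (cr x0 x3) = (cr x0 x3) + (ι t ^ p ^ i) • (cr x1 x3) + (ι t ^ p ^ j) • (cr x2 x3) + (ι t ^ p ^ i * ι t ^ p ^ j) • (cr x3 x3) := by
    intro t
    rw [← U', P.u0, P.u3]
    try simp only [cr_add_left, cr_add_right, cr_smul_left, cr_smul_right, c10, c20, c21, c30, c31, c32, fix']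
    try module
  have u12 : ∀ t, ρ' (ψ (Cfsg.Agent.H943.SL2Rel.u t)) (cr x2 x3) = (cr x2 x3) + (ι t ^ p ^ i) • (cr x3 x3) := by
    intro t
    rw [← U', P.u2, P.u3]
    try simp only [cr_add_left, cr_add_right, cr_smul_left, cr_smul_right, c10, c20, c21, c30, c31, c32, fix']
    try module
  have u20 : ∀ t, ρ' (ψ (Cfsg.Agent.H943.SL2Rel.u t)) (cr x1 x1) = (cr x1 x1) + (2 * ι t ^ p ^ j) • (cr x1 x3) + ((ι t ^ p ^ j) ^ 2) • (cr x3 x3) := by
    intro t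
    rw [← U', P.u1]
    try simp only [cr_add_left, cr_add_right, cr_smul_left, cr_smul_right, c10, c20, c21, c30, c31, c32, fix']
    try module
  have u21 : ∀ t, ρ' (ψ (Cfsg.Agent.H943.SL2Rel.u t)) (cr x1 x3) = (cr x1 x3) + (ι t ^ p ^ j) • (cr x3 x3) := by
    intro t
    rw [← U', P.u1, P.u3]
    try simp only [cr_add_left, cr_add_right, cr_smul_left, cr_smul_right, c10, c20, c21, c30, c31, c32, fix']
    try module
  have u22 : ∀ t, ρ' (ψ (Cfsg.Agent.H943.SL2Rel.u t)) (cr x3 x3) = (cr x3 x3) := by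
    intro t
    rw [← U', P.u3]
    try simp only [cr_add_left, cr_add_right, cr_smul_left, cr_smul_right, c10, c20, c21, c30, c31, c32, fix']
    try module
  have w00 : ρ' (ψ Cfsg.Agent.H943.SL2Rel.w) (cr x0 x0) = (cr x3 x3) := by
    rw [← W', P.w0]
    try simp only [← neg_one_smul k x1, ← neg_one_smul k x2, cr_smul_left, cr_smul_right, c10, c20, c21, c30, c31, c32, fix']
    try module
  have w01 : ρ' (ψ Cfsg.Agent.H943.SL2Rel.w) (cr x0 x2) = -(cr x1 x3) := by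
    rw [← W', P.w0, P.w2]
    try simp only [← neg_one_smul k x1, ← neg_one_smul k x2, cr_smul_left, cr_smul_right, c10, c20, c21, c30, c31, c32, fix']
    try module
  have w02 : ρ' (ψ Cfsg.Agent.H943.SL2Rel.w) (cr x2 x2) = (cr x1 x1) := by
    rw [← W', P.w2]
    try simp only [← neg_one_smul k x1, ← neg_one_smul k x2, cr_smul_left, cr_smul_right, c10, c20, c21, c30, c31, c32, fix']
    try module
  have w10 : ρ' (ψ Cfsg.Agent.H943.SL2Rel.w) (cr x0 x1) = -(cr x2 x3) := by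
    rw [← W', P.w0, P.w1]
    try simp only [← neg_one_smul k x1, ← neg_one_smul k x2, cr_smul_left, cr_smul_right, c10, c20, c21, c30, c31, c32, fix']
    try module
  have w11 : ρ' (ψ Cfsg.Agent.H943.SL2Rel.w) (cr x0 x3) = (cr x0 x3) := by
    rw [← W', P.w0, P.w3]
    try simp only [← neg_one_smul k x1, ← neg_one_smul k x2, cr_smul_left, cr_smul_right, c10, c20, c21, c30, c31, c32, fix']
    try module
  have w12 : ρ' (ψ Cfsg.Agent.H943.SL2Rel.w) (cr x2 x3) = -(cr x0 x1) := by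
    rw [← W', P.w2, P.w3]
    try simp only [← neg_one_smul k x1, ← neg_one_smul k x2, cr_smul_left, cr_smul_right, c10, c20, c21, c30, c31, c32, fix']
    try module
  have w20 : ρ' (ψ Cfsg.Agent.H943.SL2Rel.w) (cr x1 x1) = (cr x2 x2) := by
    rw [← W', P.w1]
    try simp only [← neg_one_smul k x1, ← neg_one_smul k x2, cr_smul_left, cr_smul_right, c10, c20, c21, c30, c31, c32, fix']
    try module
  have w21 : ρ' (ψ Cfsg.Agent.H943.SL2Rel.w) (cr x1 x3) = -(cr x0 x2) := by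
    rw [← W', P.w1, P.w3]
    try simp only [← neg_one_smul k x1, ← neg_one_smul k x2, cr_smul_left, cr_smul_right, c10, c20, c21, c30, c31, c32, fix']
    try module
  have w22 : ρ' (ψ Cfsg.Agent.H943.SL2Rel.w) (cr x3 x3) = (cr x0 x0) := by
    rw [← W', P.w3]
    try simp only [← neg_one_smul k x1, ← neg_one_smul k x2, cr_smul_left, cr_smul_right, c10, c20, c21, c30, c31, c32, fix']
    try module
  have h01 : ∀ b : Kˣ, ρ' (ψ (Cfsg.Agent.H943.SL2Rel.h b)) (cr x0 x2) = ((ι (b : K) ^ p ^ i)⁻¹ ^ 2) • (cr x0 x2) := by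
    intro b
    rw [← H', P.h0, P.h2, cr_smul_left, cr_smul_right, smul_smul]
    congr 1
    have e1 := hb (p ^ i) b
    have e2 := hb (p ^ j) b
    field_simp
  have h11 : ∀ b : Kˣ, ρ' (ψ (Cfsg.Agent.H943.SL2Rel.h b)) (cr x0 x3) = (1 : k) • (cr x0 x3) := by
    intro b
    rw [← H', P.h0, P.h3, cr_smul_left, cr_smul_right, smul_smul]
    congr 1
    have e1 := hb (p ^ i) b
    have e2 := hb (p ^ j) b
    field_simp
  have h21 : ∀ b : Kˣ, ρ' (ψ (Cfsg.Agent.H943.SL2Rel.h b)) (cr x1 x3) = ((ι (b : K) ^ p ^ i) ^ 2) • (cr x1 x3) := by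
    intro b
    rw [← H', P.h1, P.h3, cr_smul_left, cr_smul_right, smul_smul]
    congr 1
    have e1 := hb (p ^ i) b
    have e2 := hb (p ^ j) b
    field_simp
  clear c10 c20 c21 c30 c31 c32 fix'
  generalize cr x0 x0 = y00 at *
  generalize cr x0 x2 = y01 at *
  generalize cr x2 x2 = y02 at *
  generalize cr x0 x1 = y10 at *
  generalize cr x0 x3 = y11 at *
  generalize cr x2 x3 = y12 at *
  generalize cr x1 x1 = y20 at *
  generalize cr x1 x3 = y21 at *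
  generalize cr x3 x3 = y22 at *
  let C : ℕ → I27 → k := fun e => match e with
    | 0 => (3 : k) • cr y01 y01
    | 1 => (3 : k) • cr y01 y11
    | 2 => (2 : k) • cr y11 y11 + cr y01 y21
    | 3 => (3 : k) • cr y11 y21
    | 4 => (3 : k) • cr y21 y21
    | _ => 0
  have cch : Ch ι p (Rr ρ ψ) 4 i C := by
    refine ⟨fun s hs => ?_, fun s hs t => ?_, fun s hs b => ?_, fun s hs => ?_⟩
    · match s, hs with
      | s + 5, _ => rfl
    · rw [Rr_apply]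
      interval_cases s
      · show ρ (ψ (Cfsg.Agent.H943.SL2Rel.u t)) ((3 : k) • cr y01 y01) = _
        rw [map_smul, ← U, u01]
        simp only [cr_add_left, cr_add_right, cr_smul_left, cr_smul_right, T.t_y00_y00, T.t_y00_y01, T.t_y00_y02, T.t_y00_y10, T.t_y00_y11, T.t_y00_y12, T.t_y00_y20, T.t_y00_y21, T.t_y00_y22, T.t_y01_y02, T.t_y01_y10, T.t_y01_y12, T.t_y01_y20, T.t_y01_y22, T.t_y02_y02, T.t_y02_y10, T.t_y02_y11, T.t_y02_y12, T.t_y02_y20, T.t_y02_y21, T.t_y02_y22, T.t_y10_y12, T.t_y10_y20, T.t_y10_y21, T.t_y10_y22, T.t_y11_y20, T.t_y11_y22, T.t_y12_y20, T.t_y12_y21, T.t_y12_y22, T.t_y20_y20, T.t_y20_y21, T.t_y20_y22, T.t_y21_y22, T.t_y22_y22, cr_comm y01 y00, cr_comm y02 y00, cr_comm y02 y01, cr_comm y10 y00, cr_comm y10 y01, cr_comm y10 y02, cr_comm y11 y00, cr_comm y11 y01, cr_comm y11 y02, cr_comm y11 y10, cr_comm y12 y00, cr_comm y12 y01, cr_comm y12 y02, cr_comm y12 y10, cr_comm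 y12 y11, cr_comm y20 y00, cr_comm y20 y01, cr_comm y20 y02, cr_comm y20 y10, cr_comm y20 y11, cr_comm y20 y12, cr_comm y21 y00, cr_comm y21 y01, cr_comm y21 y02, cr_comm y21 y10, cr_comm y21 y11, cr_comm y21 y12, cr_comm y21 y20, cr_comm y22 y00, cr_comm y22 y01, cr_comm y22 y02, cr_comm y22 y10, cr_comm y22 y11, cr_comm y22 y12, cr_comm y22 y20, cr_comm y22 y21]
        simp only [Finset.sum_range_succ, Finset.sum_range_zero, Nat.choose, C]
        norm_num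
        module
      · show ρ (ψ (Cfsg.Agent.H943.SL2Rel.u t)) ((3 : k) • cr y01 y11) = _
        rw [map_smul, ← U, u01, u11]
        simp only [cr_add_left, cr_add_right, cr_smul_left, cr_smul_right, T.t_y00_y00, T.t_y00_y01, T.t_y00_y02, T.t_y00_y10, T.t_y00_y11, T.t_y00_y12, T.t_y00_y20, T.t_y00_y21, T.t_y00_y22, T.t_y01_y02, T.t_y01_y10, T.t_y01_y12, T.t_y01_y20, T.t_y01_y22, T.t_y02_y02, T.t_y02_y10, T.t_y02_y11, T.t_y02_y12, T.t_y02_y20, T.t_y02_y21, T.t_y02_y22, T.t_y10_y12, T.t_y10_y20, T.t_y10_y21, T.t_y10_y22, T.t_y11_y20, T.t_y11_y22, T.t_y12_y20, T.t_y12_y21, T.t_y12_y22, T.t_y20_y20, T.t_y20_y21, T.t_y20_y22, T.t_y21_y22, T.t_y22_y22, cr_comm y01 y00, cr_comm y02 y00, cr_comm y02 y01, cr_comm y10 y00, cr_comm y10 y01, cr_comm y10 y02, cr_comm y11 y00, cr_comm y11 y01, cr_comm y11 y02, cr_comm y11 y10, cr_comm y12 y00, cr_comm y12 y01, cr_comm y12 y02, cr_comm y12 y10, cr_comm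 y12 y11, cr_comm y20 y00, cr_comm y20 y01, cr_comm y20 y02, cr_comm y20 y10, cr_comm y20 y11, cr_comm y20 y12, cr_comm y21 y00, cr_comm y21 y01, cr_comm y21 y02, cr_comm y21 y10, cr_comm y21 y11, cr_comm y21 y12, cr_comm y21 y20, cr_comm y22 y00, cr_comm y22 y01, cr_comm y22 y02, cr_comm y22 y10, cr_comm y22 y11, cr_comm y22 y12, cr_comm y22 y20, cr_comm y22 y21]
        simp only [Finset.sum_range_succ, Finset.sum_range_zero, Nat.choose, C]
        norm_num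
        module
      · show ρ (ψ (Cfsg.Agent.H943.SL2Rel.u t)) ((2 : k) • cr y11 y11 + cr y01 y21) = _
        rw [map_add, map_smul, ← U, ← U, u01, u11, u21]
        simp only [cr_add_left, cr_add_right, cr_smul_left, cr_smul_right, T.t_y00_y00, T.t_y00_y01, T.t_y00_y02, T.t_y00_y10, T.t_y00_y11, T.t_y00_y12, T.t_y00_y20, T.t_y00_y21, T.t_y00_y22, T.t_y01_y02, T.t_y01_y10, T.t_y01_y12, T.t_y01_y20, T.t_y01_y22, T.t_y02_y02, T.t_y02_y10, T.t_y02_y11, T.t_y02_y12, T.t_y02_y20, T.t_y02_y21, T.t_y02_y22, T.t_y10_y12, T.t_y10_y20, T.t_y10_y21, T.t_y10_y22, T.t_y11_y20, T.t_y11_y22, T.t_y12_y20, T.t_y12_y21, T.t_y12_y22, T.t_y20_y20, T.t_y20_y21, T.t_y20_y22, T.t_y21_y22, T.t_y22_y22, cr_comm y01 y00, cr_comm y02 y00, cr_comm y02 y01, cr_comm y10 y00, cr_comm y10 y01, cr_comm y10 y02, cr_comm y11 y00, cr_comm y11 y01, cr_comm y11 y02, cr_comm y11 y10, cr_comm y12 y00, cr_comm y12 y01, cr_comm y12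 y02, cr_comm y12 y10, cr_comm y12 y11, cr_comm y20 y00, cr_comm y20 y01, cr_comm y20 y02, cr_comm y20 y10, cr_comm y20 y11, cr_comm y20 y12, cr_comm y21 y00, cr_comm y21 y01, cr_comm y21 y02, cr_comm y21 y10, cr_comm y21 y11, cr_comm y21 y12, cr_comm y21 y20, cr_comm y22 y00, cr_comm y22 y01, cr_comm y22 y02, cr_comm y22 y10, cr_comm y22 y11, cr_comm y22 y12, cr_comm y22 y20, cr_comm y22 y21]
        simp only [Finset.sum_range_succ, Finset.sum_range_zero, Nat.choose, C]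
        norm_num
        module
      · show ρ (ψ (Cfsg.Agent.H943.SL2Rel.u t)) ((3 : k) • cr y11 y21) = _
        rw [map_smul, ← U, u11, u21]
        simp only [cr_add_left, cr_add_right, cr_smul_left, cr_smul_right, T.t_y00_y00, T.t_y00_y01, T.t_y00_y02, T.t_y00_y10, T.t_y00_y11, T.t_y00_y12, T.t_y00_y20, T.t_y00_y21, T.t_y00_y22, T.t_y01_y02, T.t_y01_y10, T.t_y01_y12, T.t_y01_y20, T.t_y01_y22, T.t_y02_y02, T.t_y02_y10, T.t_y02_y11, T.t_y02_y12, T.t_y02_y20, T.t_y02_y21, T.t_y02_y22, T.t_y10_y12, T.t_y10_y20, T.t_y10_y21, T.t_y10_y22, T.t_y11_y20, T.t_y11_y22, T.t_y12_y20, T.t_y12_y21, T.t_y12_y22, T.t_y20_y20, T.t_y20_y21, T.t_y20_y22, T.t_y21_y22, T.t_y22_y22, cr_comm y01 y00, cr_comm y02 y00, cr_comm y02 y01, cr_comm y10 y00, cr_comm y10 y01, cr_comm y10 y02, cr_comm y11 y00, cr_comm y11 y01, cr_comm y11 y02, cr_comm y11 y10, cr_comm y12 y00, cr_comm y12 y01, cr_comm y12 y02, cr_comm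 y12 y10, cr_comm y12 y11, cr_comm y20 y00, cr_comm y20 y01, cr_comm y20 y02, cr_comm y20 y10, cr_comm y20 y11, cr_comm y20 y12, cr_comm y21 y00, cr_comm y21 y01, cr_comm y21 y02, cr_comm y21 y10, cr_comm y21 y11, cr_comm y21 y12, cr_comm y21 y20, cr_comm y22 y00, cr_comm y22 y01, cr_comm y22 y02, cr_comm y22 y10, cr_comm y22 y11, cr_comm y22 y12, cr_comm y22 y20, cr_comm y22 y21]
        simp only [Finset.sum_range_succ, Finset.sum_range_zero, Nat.choose, C]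
        norm_num
        module
      · show ρ (ψ (Cfsg.Agent.H943.SL2Rel.u t)) ((3 : k) • cr y21 y21) = _
        rw [map_smul, ← U, u21]
        simp only [cr_add_left, cr_add_right, cr_smul_left, cr_smul_right, T.t_y00_y00, T.t_y00_y01, T.t_y00_y02, T.t_y00_y10, T.t_y00_y11, T.t_y00_y12, T.t_y00_y20, T.t_y00_y21, T.t_y00_y22, T.t_y01_y02, T.t_y01_y10, T.t_y01_y12, T.t_y01_y20, T.t_y01_y22, T.t_y02_y02, T.t_y02_y10, T.t_y02_y11, T.t_y02_y12, T.t_y02_y20, T.t_y02_y21, T.t_y02_y22, T.t_y10_y12, T.t_y10_y20, T.t_y10_y21, T.t_y10_y22, T.t_y11_y20, T.t_y11_y22, T.t_y12_y20, T.t_y12_y21, T.t_y12_y22, T.t_y20_y20, T.t_y20_y21, T.t_y20_y22, T.t_y21_y22, T.t_y22_y22, cr_comm y01 y00, cr_comm y02 y00, cr_comm y02 y01, cr_comm y10 y00, cr_comm y10 y01, cr_comm y10 y02, cr_comm y11 y00, cr_comm y11 y01, cr_comm y11 y02, cr_comm y11 y10, cr_comm y12 y00, cr_comm y12 y01, cr_comm y12 y02, cr_comm y12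 y10, cr_comm y12 y11, cr_comm y20 y00, cr_comm y20 y01, cr_comm y20 y02, cr_comm y20 y10, cr_comm y20 y11, cr_comm y20 y12, cr_comm y21 y00, cr_comm y21 y01, cr_comm y21 y02, cr_comm y21 y10, cr_comm y21 y11, cr_comm y21 y12, cr_comm y21 y20, cr_comm y22 y00, cr_comm y22 y01, cr_comm y22 y02, cr_comm y22 y10, cr_comm y22 y11, cr_comm y22 y12, cr_comm y22 y20, cr_comm y22 y21]
        simp only [Finset.sum_range_succ, Finset.sum_range_zero, Nat.choose, C]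
        norm_num
    · rw [Rr_apply]
      have e1 := hb (p ^ i) b
      interval_cases s
      · show ρ (ψ (Cfsg.Agent.H943.SL2Rel.h b)) ((3 : k) • cr y01 y01) = _ • ((3 : k) • cr y01 y01)
        rw [map_smul, ← H, h01]
        simp only [cr_smul_left, cr_smul_right, smul_smul]
        congr 1
        show _ = (ι (b : K) ^ p ^ i) ^ 0 * ((ι (b : K) ^ p ^ i)⁻¹) ^ 4 * 3
        field_simp
      · show ρ (ψ (Cfsg.Agent.H943.SL2Rel.h b)) ((3 : k) • cr y01 y11) = _ • ((3 : k) • cr y01 y11)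
        rw [map_smul, ← H, h01, h11]
        simp only [cr_smul_left, cr_smul_right, smul_smul]
        congr 1
        show _ = (ι (b : K) ^ p ^ i) ^ 1 * ((ι (b : K) ^ p ^ i)⁻¹) ^ 3 * 3
        field_simp
      · show ρ (ψ (Cfsg.Agent.H943.SL2Rel.h b)) ((2 : k) • cr y11 y11 + cr y01 y21) = _ • ((2 : k) • cr y11 y11 + cr y01 y21)
        rw [map_add, map_smul, ← H, ← H, h01, h11, h21]
        simp only [cr_smul_left, cr_smul_right, smul_smul, smul_add]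
        congr 2
        show _ = (ι (b : K) ^ p ^ i) ^ 2 * ((ι (b : K) ^ p ^ i)⁻¹) ^ 2 * 2
        field_simp
      · show ρ (ψ (Cfsg.Agent.H943.SL2Rel.h b)) ((3 : k) • cr y11 y21) = _ • ((3 : k) • cr y11 y21)
        rw [map_smul, ← H, h11, h21]
        simp only [cr_smul_left, cr_smul_right, smul_smul]
        congr 1
        show _ = (ι (b : K) ^ p ^ i) ^ 3 * ((ι (b : K) ^ p ^ i)⁻¹) ^ 1 * 3
        field_simp
      · show ρ (ψ (Cfsg.Agent.H943.SL2Rel.h b)) ((3 : k) • cr y21 y21) = _ • ((3 : k) • cr y21 y21)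
        rw [map_smul, ← H, h21]
        simp only [cr_smul_left, cr_smul_right, smul_smul]
        congr 1
        show _ = (ι (b : K) ^ p ^ i) ^ 4 * ((ι (b : K) ^ p ^ i)⁻¹) ^ 0 * 3
        field_simp
    · rw [Rr_apply]
      interval_cases s
      · show ρ (ψ Cfsg.Agent.H943.SL2Rel.w) ((3 : k) • cr y01 y01) = (-1 : k) ^ 0 • ((3 : k) • cr y21 y21)
        rw [map_smul, ← W, w01, ← neg_one_smul k y21, cr_smul_left, cr_smul_right]
        module
      · show ρ (ψ Cfsg.Agent.H943.SL2Rel.w) ((3 : k) • cr y01 y11) = (-1 : k) ^ 1 • ((3 : k) • cr y11 y21)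
        rw [map_smul, ← W, w01, w11, ← neg_one_smul k y21, cr_smul_left, cr_comm y21 y11]
        module
      · show ρ (ψ Cfsg.Agent.H943.SL2Rel.w) ((2 : k) • cr y11 y11 + cr y01 y21) =
          (-1 : k) ^ 2 • ((2 : k) • cr y11 y11 + cr y01 y21)
        rw [map_add, map_smul, ← W, ← W, w01, w11, w21, ← neg_one_smul k y21, ← neg_one_smul k y01, cr_smul_left,
          cr_smul_right, cr_comm y21 y01]
        module
      · show ρ (ψ Cfsg.Agent.H943.SL2Rel.w) ((3 : k) • cr y11 y21) = (-1 : k) ^ 3 • ((3 : k) • cr y01 y11)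
        rw [map_smul, ← W, w21, w11, ← neg_one_smul k y01, cr_smul_right, cr_comm y11 y01]
        module
      · show ρ (ψ Cfsg.Agent.H943.SL2Rel.w) ((3 : k) • cr y21 y21) = (-1 : k) ^ 4 • ((3 : k) • cr y01 y01)
        rw [map_smul, ← W, w21, ← neg_one_smul k y01, cr_smul_left, cr_smul_right]
        module
  have hsq : cr (cr y21 y21) (cr y21 y21) = 0 := by
    have h := cr4 y20 y22 y20 y22
    rw [T.t_y20_y20, T.t_y22_y22, cr_zero_left, tf_zero_left, cr_comm y22 y20, tf_cr y20 y22 y20, cr_comm y22 y20, ← tf_cr,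
      T.t_y20_y20, tf_zero_left, tf_cr y20 y22 y22, T.t_y22_y22, tf_zero_right, T.t_y20_y22, cr_smul_left,
      cr_smul_right] at h
    have h' : (8 : k) • cr (cr y21 y21) (cr y21 y21) = 0 := by linear_combination (norm := module) h
    refine can _ _ ?_ h'
    rw [show (8 : k) = 2 ^ 3 by norm_num]
    exact pow_ne_zero _ h2
  have hC0 : C 0 = 0 := by
    by_contra hne
    apply four_sh_ne f h5 h9 nts nts' cch hne
    show cr ((3 : k) • cr y21 y21) ((3 : k) • cr y21 y21) = 0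
    rw [cr_smul_left, cr_smul_right, hsq, smul_zero, smul_zero]
  have hC : ∀ t : K, C 0 + (ι t ^ p ^ i) • ((4 : k) • C 1) + (ι t ^ p ^ i) ^ 2 • ((6 : k) • C 2) +
      (ι t ^ p ^ i) ^ 3 • ((4 : k) • C 3) + (ι t ^ p ^ i) ^ 4 • C 4 = 0 := by
    intro t
    have h := (four_u cch t).1
    rw [hC0, map_zero] at h
    rw [hC0]
    linear_combination (norm := module) -h
  obtain ⟨-, k1, k2, k3, k4⟩ := coeff5 (ι := ι) (p := p) (by omega) hC
  have s4 : (4 : k) ≠ 0 := by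
    rw [show (4 : k) = 2 ^ 2 by norm_num]
    exact pow_ne_zero _ h2
  have s6 : (6 : k) ≠ 0 := by
    rw [show (6 : k) = 2 * 3 by norm_num]
    exact mul_ne_zero h2 h3
  exact ⟨can (3 : k) _ h3 hC0, can (3 : k) _ h3 (can (4 : k) _ s4 k1), can (6 : k) _ s6 k2,
    can (3 : k) _ h3 (can (4 : k) _ s4 k3), can (3 : k) _ h3 k4⟩

/-- `V_{p^i + p^j}` has a zero basis vector -/
theorem P11.zero (P : P11 ι p ρ ψ i j x0 x1 x2 x3) (f : Fra p a ψ ρ ρ') (h5 : 5 ≤ p) (nts : Nts ψ ρ) (nts' : Nts ψ ρ')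
    (hij : i ≠ j) (hi : i < a) (hj : j < a)
    (hst : ∀ g, ∀ x ∈ Submodule.span k ({x0, x1, x2, x3} : Set (I27 → k)), Rr ρ ψ g x ∈
      Submodule.span k ({x0, x1, x2, x3} : Set (I27 → k))) : x0 = 0 := by
  have h2 : (2 : k) ≠ 0 := two_ne_zero' (ι := ι) f.odd
  have h3 : (3 : k) ≠ 0 := by
    intro h0
    have h1 : ((3 : ℕ) : k) = 0 := by exact_mod_cast h0
    rw [CharP.cast_eq_zero_iff k p] at h1
    have := (Nat.prime_dvd_prime_iff_eq (Fact.out : p.Prime) Nat.prime_three).1 h1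
    omega
  have h9 : 9 ≤ Fintype.card K := by
    have h1 : p ^ 2 ≤ p ^ a := Nat.pow_le_pow_right (by omega) (by omega)
    have h2 : 5 ^ 2 ≤ p ^ 2 := Nat.pow_le_pow_left h5 2
    rw [f.card]
    omega
  have can : ∀ (e : k) (x : I27 → k), e ≠ 0 → e • x = 0 → x = 0 := fun e x he hx => (smul_eq_zero.1 hx).resolve_left he
  have htri := P.tri f h5 hij hi hj
  have L : ∀ x y z t : I27 → k, x ∈ ({x0, x1, x2, x3} : Set (I27 → k)) → y ∈ ({x0, x1, x2, x3} : Set (I27 → k)) →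
      z ∈ ({x0, x1, x2, x3} : Set (I27 → k)) → t ∈ ({x0, x1, x2, x3} : Set (I27 → k)) →
      cr (cr x y) (cr z t) + cr (cr x z) (cr y t) + cr (cr x t) (cr y z) = 0 := by
    intro x y z t hx hy hz ht
    rw [cr4, htri x hx y hy z hz, htri x hx y hy t ht, htri x hx z hz t ht, htri y hy z hz t ht]
    simp
  have T := T11.of h2 h3 (P.fix f) L
  obtain ⟨a0, a1, a2, a3, a4⟩ := P.pzero f h5 h9 nts nts' T
  have L' : ∀ x y z t : I27 → k, x ∈ ({x0, x2, x1, x3} : Set (I27 → k)) → y ∈ ({x0, x2, x1, x3} : Set (I27 → k)) →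
      z ∈ ({x0, x2, x1, x3} : Set (I27 → k)) → t ∈ ({x0, x2, x1, x3} : Set (I27 → k)) →
      cr (cr x y) (cr z t) + cr (cr x z) (cr y t) + cr (cr x t) (cr y z) = 0 := by
    have e : ({x0, x2, x1, x3} : Set (I27 → k)) = {x0, x1, x2, x3} := by
      ext x
      simp only [Set.mem_insert_iff, Set.mem_singleton_iff]
      tauto
    rw [e]
    exact L
  have T' := T11.of h2 h3 (P.swap.fix f) L'
  obtain ⟨b0, b1, b2, b3, b4⟩ := P.swap.pzero f h5 h9 nts nts' T'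
  have fix' : cr x1 x2 = cr x0 x3 := (P.fix f).symm
  have hr : cr (cr x0 x3) (cr x0 x3) = 0 := by
    refine can (3 : k) _ h3 ?_
    rw [T.t_y10_y12] at b2
    linear_combination (norm := module) a2 + b2
  have hs : cr (cr x0 x2) (cr x1 x3) = 0 := by
    rw [hr, smul_zero, zero_add] at a2
    exact a2
  refine sq_bot' (S := {x0, x1, x2, x3}) (T := {cr x0 x0, cr x0 x2, cr x2 x2, cr x0 x1, cr x0 x3, cr x2 x3, cr x1 x1, cr x1 x3, cr x3 x3}) f h2 nts nts' hst ?_ ?_ x0 (by simp)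
  · intro x hx y hy
    apply Submodule.subset_span
    simp only [Set.mem_insert_iff, Set.mem_singleton_iff] at hx hy ⊢
    rcases hx with h | h | h | h <;> rcases hy with h' | h' | h' | h' <;> rw [h, h'] <;>
      simp [cr_comm x1 x0, cr_comm x2 x0, cr_comm x3 x0, cr_comm x2 x1, cr_comm x3 x1, cr_comm x3 x2, fix']
  · clear hst L L' T' htri fix' P
    generalize cr x0 x0 = y00 at *
    generalize cr x0 x2 = y01 at *
    generalize cr x2 x2 = y02 at *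
    generalize cr x0 x1 = y10 at *
    generalize cr x0 x3 = y11 at *
    generalize cr x2 x3 = y12 at *
    generalize cr x1 x1 = y20 at *
    generalize cr x1 x3 = y21 at *
    generalize cr x3 x3 = y22 at *
    intro y hy y' hy'
    simp only [Set.mem_insert_iff, Set.mem_singleton_iff] at hy hy'
    rcases hy with h | h | h | h | h | h | h | h | h <;>
      rcases hy' with h' | h' | h' | h' | h' | h' | h' | h' | h' <;> rw [h, h'] <;>
      simp only [cr_comm y01 y00, cr_comm y02 y00, cr_comm y02 y01, cr_comm y10 y00, cr_comm y10 y01, cr_comm y10 y02, cr_comm y11 y00, cr_comm y11 y01, cr_comm y11 y02, cr_comm y11 y10, cr_comm y12 y00, cr_comm y12 y01, cr_comm y12 y02, cr_comm y12 y10, cr_comm y12 y11, cr_comm y20 y00, cr_comm y20 y01, cr_comm y20 y02, cr_comm y20 y10, cr_comm y20 y11, cr_comm y20 y12, cr_comm y21 y00, cr_comm y21 y01, cr_comm y21 y02, cr_comm y21 y10, cr_comm y21 y11, cr_comm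 y21 y12, cr_comm y21 y20, cr_comm y22 y00, cr_comm y22 y01, cr_comm y22 y02, cr_comm y22 y10, cr_comm y22 y11, cr_comm y22 y12, cr_comm y22 y20, cr_comm y22 y21, T.t_y00_y00, T.t_y00_y01, T.t_y00_y02, T.t_y00_y10, T.t_y00_y11, T.t_y00_y12, T.t_y00_y20, T.t_y00_y21, T.t_y00_y22, T.t_y01_y02, T.t_y01_y10, T.t_y01_y12, T.t_y01_y20, T.t_y01_y22, T.t_y02_y02, T.t_y02_y10, T.t_y02_y11, T.t_y02_y12, T.t_y02_y20, T.t_y02_y21, T.t_y02_y22, T.t_y10_y12, T.t_y10_y20, T.t_y10_y21, T.t_y10_y22, T.t_y11_y20, T.t_y11_y22, T.t_y12_y20, T.t_y12_y21, T.t_y12_y22, T.t_y20_y20, T.t_y20_y21, T.t_y20_y22, T.t_y21_y22, T.t_y22_y22, a0, a1, a3, a4, b0, b1, b3, b4, hr, hs, smul_zero, add_zero]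

end pair

/-- **L11** -/
theorem not_inSoc_pair (f : Fra p a ψ ρ ρ') (h5 : 5 ≤ p) (nts : Nts ψ ρ) (nts' : Nts ψ ρ') {i j : ℕ}
    (hij : i ≠ j) (hi : i < a) (hj : j < a) : ¬ InSoc ι p (Rr ρ ψ) (p ^ i + p ^ j) := by
  intro h
  obtain ⟨X, hX, hb⟩ := h
  have hb' : IsV ι p (subRep (Rr ρ ψ) X hX) (1 * p ^ i + 1 * p ^ j) := by rwa [one_mul, one_mul]
  obtain ⟨v, hv⟩ := hb'.basP ι p f.card (by omega) (by omega) hij hi hj
  have hne : ((v 0 0 : X) : I27 → k) ≠ 0 := by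
    intro h0
    exact hv.li.ne_zero ((0, 0) : Fin (1 + 1) × Fin (1 + 1)) (Subtype.ext h0)
  have hu : ∀ s ≤ 1, ∀ s' ≤ 1, ∀ t, Rr ρ ψ (Cfsg.Agent.H943.SL2Rel.u t) (v s s' : I27 → k) =
      ∑ l ∈ Finset.range (1 - s + 1), ∑ l' ∈ Finset.range (1 - s' + 1),
      ((((1 - s).choose l : k) * (ι t ^ p ^ i) ^ l) * (((1 - s').choose l' : k) * (ι t ^ p ^ j) ^ l')) •
        (v (s + l) (s' + l') : I27 → k) := by
    intro s hs s' hs' t
    have h1 := congrArg Subtype.val (hv.u s hs s' hs' t)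
    rw [Submodule.coe_sum] at h1
    refine h1.trans (Finset.sum_congr rfl fun l _ => ?_)
    rw [Submodule.coe_sum]
    rfl
  have P : P11 ι p ρ ψ i j (v 0 0 : I27 → k) (v 1 0) (v 0 1) (v 1 1) := by
    refine ⟨fun t => ?_, fun t => ?_, fun t => ?_, fun t => ?_, fun b => ?_, fun b => ?_, fun b => ?_, fun b => ?_, ?_, ?_,
      ?_, ?_⟩
    · have h1 := hu 0 (by norm_num) 0 (by norm_num) t
      simp only [Finset.sum_range_succ, Finset.sum_range_zero, Nat.choose, Rr_apply] at h1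
      rw [h1]
      norm_num
      module
    · have h1 := hu 1 (by norm_num) 0 (by norm_num) t
      simp only [Finset.sum_range_succ, Finset.sum_range_zero, Nat.choose, Rr_apply] at h1
      rw [h1]
      norm_num
    · have h1 := hu 0 (by norm_num) 1 (by norm_num) t
      simp only [Finset.sum_range_succ, Finset.sum_range_zero, Nat.choose, Rr_apply] at h1
      rw [h1]
      norm_num
    · have h1 := hu 1 (by norm_num) 1 (by norm_num) t
      simp only [Finset.sum_range_succ, Finset.sum_range_zero, Nat.choose, Rr_apply] at h1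
      rw [h1]
      norm_num
    · have h1 := congrArg Subtype.val (hv.h 0 (by norm_num) 0 (by norm_num) b)
      refine h1.trans ?_
      show ((ι (b : K) ^ p ^ i) ^ 0 * ((ι (b : K) ^ p ^ i)⁻¹) ^ 1 * ((ι (b : K) ^ p ^ j) ^ 0 * ((ι (b : K) ^ p ^ j)⁻¹) ^ 1)) •
        (v 0 0 : I27 → k) = _
      rw [pow_zero, pow_zero, pow_one, pow_one, one_mul, one_mul]
    · have h1 := congrArg Subtype.val (hv.h 1 (by norm_num) 0 (by norm_num) b)
      refine h1.trans ?_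
      show ((ι (b : K) ^ p ^ i) ^ 1 * ((ι (b : K) ^ p ^ i)⁻¹) ^ 0 * ((ι (b : K) ^ p ^ j) ^ 0 * ((ι (b : K) ^ p ^ j)⁻¹) ^ 1)) •
        (v 1 0 : I27 → k) = _
      rw [pow_zero, pow_zero, pow_one, pow_one, mul_one, one_mul]
    · have h1 := congrArg Subtype.val (hv.h 0 (by norm_num) 1 (by norm_num) b)
      refine h1.trans ?_
      show ((ι (b : K) ^ p ^ i) ^ 0 * ((ι (b : K) ^ p ^ i)⁻¹) ^ 1 * ((ι (b : K) ^ p ^ j) ^ 1 * ((ι (b : K) ^ p ^ j)⁻¹) ^ 0)) •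
        (v 0 1 : I27 → k) = _
      rw [pow_zero, pow_zero, pow_one, pow_one, mul_one, one_mul]
    · have h1 := congrArg Subtype.val (hv.h 1 (by norm_num) 1 (by norm_num) b)
      refine h1.trans ?_
      show ((ι (b : K) ^ p ^ i) ^ 1 * ((ι (b : K) ^ p ^ i)⁻¹) ^ 0 * ((ι (b : K) ^ p ^ j) ^ 1 * ((ι (b : K) ^ p ^ j)⁻¹) ^ 0)) •
        (v 1 1 : I27 → k) = _
      rw [pow_zero, pow_zero, pow_one, pow_one, mul_one, mul_one]
    · have h1 := congrArg Subtype.val (hv.w 0 (by norm_num) 0 (by norm_num))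
      refine h1.trans ?_
      show ((-1 : k) ^ 0 * (-1 : k) ^ 0) • (v 1 1 : I27 → k) = _
      rw [pow_zero, one_mul, one_smul]
    · have h1 := congrArg Subtype.val (hv.w 1 (by norm_num) 0 (by norm_num))
      refine h1.trans ?_
      show ((-1 : k) ^ 1 * (-1 : k) ^ 0) • (v 0 1 : I27 → k) = _
      rw [pow_zero, pow_one, mul_one, neg_one_smul]
    · have h1 := congrArg Subtype.val (hv.w 0 (by norm_num) 1 (by norm_num))
      refine h1.trans ?_
      show ((-1 : k) ^ 0 * (-1 : k) ^ 1) • (v 1 0 : I27 → k) = _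
      rw [pow_zero, pow_one, one_mul, neg_one_smul]
    · have h1 := congrArg Subtype.val (hv.w 1 (by norm_num) 1 (by norm_num))
      refine h1.trans ?_
      show ((-1 : k) ^ 1 * (-1 : k) ^ 1) • (v 0 0 : I27 → k) = _
      rw [pow_one, neg_one_mul, neg_neg, one_smul]
  refine hne (P.zero f h5 nts nts' hij hi hj ?_)
  have hspan : Submodule.span k ({(v 0 0 : I27 → k), (v 1 0 : I27 → k), (v 0 1 : I27 → k), (v 1 1 : I27 → k)} :
      Set (I27 → k)) = X := by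
    apply le_antisymm
    · rw [Submodule.span_le]
      intro x hx
      simp only [Set.mem_insert_iff, Set.mem_singleton_iff] at hx
      rcases hx with rfl | rfl | rfl | rfl <;> exact Subtype.property _
    · intro x hx
      have h1 : (⟨x, hx⟩ : X) ∈ Submodule.span k (Set.range fun y : Fin (1 + 1) × Fin (1 + 1) => v y.1 y.2) :=
        hv.sp trivial
      have h2 := Submodule.mem_map_of_mem (f := X.subtype) h1
      rw [Submodule.map_span] at h2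
      refine Submodule.span_mono ?_ h2
      rintro _ ⟨_, ⟨⟨y, z⟩, rfl⟩, rfl⟩
      fin_cases y <;> fin_cases z <;> simp
  rw [hspan]
  exact hX

end Cfsg.Agent.R2.H22.Loc
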