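import Cfsg.Agent.R2.H22.Norm
import Cfsg.Agent.R2.H9.E6.Cfg
import Cfsg.Agent.H65.E6Full

/-!
# No root elements over extension fields commute with `A` (helper22)

* `core` : a finite group `C ≤ Zgrp E` with an endomorphism of Steinberg type with few fixed points contains no
  one-parameter group `1 + t N`, `N² = 0`, `N ≠ 0`.
-/

set_option autoImplicit false
set_option linter.unusedSectionVars false

namespace Cfsg.Agent.R2.H22.Root

open Cfsg Cfsg.Lie Module
open Cfsg.Agent.ChevalleyStructure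
open Cfsg.Agent.ChevalleyStructure.E6Min.Basic Cfsg.Agent.ChevalleyStructure.E6Min.Adjoint
open Cfsg.Agent.H163.E6 Cfsg.Agent.H65.E6Emb Cfsg.Agent.R2.H22.Norm
open Cfsg.Agent.H163.E6.Act
open Finset
open scoped Matrix

universe u v w

section core

variable {E : Type u} [Field E]

/-- the matrix of an element -/
abbrev mt (g : ↥(Zgrp E)) : Matrix I27 I27 E := ((g : GL I27 E) : Matrix I27 I27 E)

theorem mt_mul (g h : ↥(Zgrp E)) : mt (g * h) = mt g * mt h := rfl

theorem mt_one : mt (1 : ↥(Zgrp E)) = 1 := rfl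

theorem mt_unit (g : ↥(Zgrp E)) : IsUnit (mt g) := (g : GL I27 E).isUnit

theorem mt_inj {g h : ↥(Zgrp E)} (e : mt g = mt h) : g = h := Subtype.ext (Units.ext e)

theorem core [Fintype E] [DecidableEq E] (C : Subgroup ↥(Zgrp E)) (σ : ↥(Zgrp E) →* ↥(Zgrp E))
    (hC : ∀ x ∈ C, σ x ∈ C) (m r e : ℕ) (hm : 1 ≤ m) (hr : 2 ≤ r) (hσm : ∀ x, σ^[m] x = x)
    (he : {x : ↥(Zgrp E) | x ∈ C ∧ σ x = x}.ncard ≤ e) (hcard : e * ∑ i ∈ range m, r ^ i < Fintype.card E)
    (hσ : ∀ N : Matrix I27 I27 E, N * N = 0 → ∃ N', N' * N' = 0 ∧ ∀ (x : ↥(Zgrp E)) (t : E), mt x = 1 + t • N →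
      mt (σ x) = 1 + t ^ r • N') {N : Matrix I27 I27 E} (hN : N * N = 0) (z : E → ↥(Zgrp E))
    (hz : ∀ t, mt (z t) = 1 + t • N) (hzC : ∀ t, z t ∈ C) : N = 0 := by
  classical
  have hfin : Finite ↥(Zgrp E) := inferInstance
  have hfC : Fintype C := Fintype.ofFinite _
  -- the iterates
  have hit : ∀ k : ℕ, ∃ Nk : Matrix I27 I27 E, Nk * Nk = 0 ∧ ∀ t, mt (σ^[k] (z t)) = 1 + t ^ (r ^ k) • Nk := by
    intro k
    induction k with
    | zero => exact ⟨N, hN, fun t => by rw [pow_zero, pow_one]; exact hz t⟩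
    | succ k ih =>
      obtain ⟨Nk, h1, h2⟩ := ih
      obtain ⟨N', h3, h4⟩ := hσ Nk h1
      refine ⟨N', h3, fun t => ?_⟩
      rw [Function.iterate_succ_apply', h4 _ _ (h2 t), ← pow_mul, ← pow_succ]
  choose Ns hNs1 hNs2 using hit
  have hN0 : Ns 0 = N := by
    have h1 := hNs2 0 1
    have h2 := hz 1
    rw [pow_zero, pow_one, one_smul] at h1
    rw [one_smul] at h2
    have h3 : mt (σ^[0] (z 1)) = mt (z 1) := rfl
    rw [h3, h2] at h1
    exact (add_left_cancel h1).symm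
  -- the restriction of `σ`
  let τ : C →* C := (σ.comp C.subtype).codRestrict C fun x => hC x x.2
  have hτ : ∀ (k : ℕ) (x : C), ((τ^[k] x : C) : ↥(Zgrp E)) = σ^[k] x := by
    intro k x
    induction k with
    | zero => rfl
    | succ k ih => rw [Function.iterate_succ_apply', Function.iterate_succ_apply', ← ih]; rfl
  have hτm : ∀ x, τ^[m] x = x := fun x => Subtype.ext (by rw [hτ, hσm])
  have hτe : (univ.filter fun x : C => τ x = x).card ≤ e := by
    refine le_trans ?_ he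
    rw [← Set.ncard_coe_finset]
    refine Set.ncard_le_ncard_of_injOn (fun x : C => (x : ↥(Zgrp E))) ?_ (fun x _ y _ h => Subtype.ext h)
      (Set.toFinite _)
    intro x hx
    rw [Finset.mem_coe, mem_filter] at hx
    exact ⟨x.2, congrArg Subtype.val hx.2⟩
  obtain ⟨g, hg⟩ := exists_many τ m hτm e hτe (fun t : E => (⟨z t, hzC t⟩ : C))
  set T : Finset E := univ.filter fun t => nrm τ m (g * ⟨z t, hzC t⟩) = 1 with hT
  have hcard' : ∑ i ∈ range m, r ^ i < T.card := by
    by_contra hcon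
    have h1 : e * T.card ≤ e * ∑ i ∈ range m, r ^ i := Nat.mul_le_mul_left _ (not_lt.1 hcon)
    omega
  -- the product
  have hval : ∀ (k : ℕ) (t : E), mt ((nrm τ k (g * ⟨z t, hzC t⟩) : C) : ↥(Zgrp E)) =
      (prd (fun k => mt (σ^[k] (g : ↥(Zgrp E)))) Ns r k).map (Polynomial.eval t) := by
    intro k t
    induction k with
    | zero =>
      rw [nrm_zero]
      show (1 : Matrix I27 I27 E) = (1 : Matrix I27 I27 (Polynomial E)).map (Polynomial.eval t)
      ext i j
      rw [Matrix.map_apply, Matrix.one_apply, Matrix.one_apply]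
      split_ifs
      · rw [Polynomial.eval_one]
      · rw [Polynomial.eval_zero]
    | succ k ih =>
      rw [nrm_succ', eval_prd, ← ih, Subgroup.coe_mul, mt_mul, hτ]
      congr 1
      have h1 : σ^[k] ((g * ⟨z t, hzC t⟩ : C) : ↥(Zgrp E)) = σ^[k] (g : ↥(Zgrp E)) * σ^[k] (z t) := by
        rw [Subgroup.coe_mul]
        exact iterate_map_mul σ k _ _
      rw [h1, mt_mul, hNs2]
  have hfinal := eq_zero_of_many (A := fun k => mt (σ^[k] (g : ↥(Zgrp E)))) (N := Ns) hr hm (fun k => mt_unit _) T hcard'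
    (fun t ht => by
      rw [← hval, (mem_filter.1 ht).2]
      rfl)
  rw [← hN0, hfinal]

end core

/-! ### the two Steinberg maps -/

section maps

variable {E : Type u} [Field E]

theorem emb_root (s : E →+* E) {r : ℕ} (hs : ∀ x, s x = x ^ r) (N : Matrix I27 I27 E) (hN : N * N = 0) :
    ∃ N', N' * N' = 0 ∧ ∀ (x : ↥(Zgrp E)) (t : E), mt x = 1 + t • N → mt (emb s x) = 1 + t ^ r • N' := by
  refine ⟨N.map s, ?_, fun x t h => ?_⟩
  · rw [← Matrix.map_mul, hN]
    ext i j
    simp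
  · show ((emb s x : GL I27 E) : Matrix I27 I27 E) = _
    rw [coe_emb]
    change (mt x).map s = _
    rw [h, ← hs t]
    ext i j
    simp only [Matrix.map_apply, Matrix.add_apply, Matrix.smul_apply, smul_eq_mul, map_add, map_mul,
      Matrix.one_apply, apply_ite s, map_one, map_zero]

open Cfsg.Agent.H944.E6Tw Cfsg.Agent.H184.GraphE6 in
theorem sE_root (φ : E →+* E) {r : ℕ} (hφ : ∀ x, φ x = x ^ r) (N : Matrix I27 I27 E) (hN : N * N = 0) :
    ∃ N', N' * N' = 0 ∧ ∀ (x : ↥(Zgrp E)) (t : E), mt x = 1 + t • N → mt (sE φ x) = 1 + t ^ r • N' := by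
  have hNφ : N.map φ * N.map φ = 0 := by
    rw [← Matrix.map_mul, hN]
    ext i j
    simp
  refine ⟨-(QM E * (PM E * (N.map φ)ᵀ * PM E) * QM E), ?_, fun x t h => ?_⟩
  · have h1 : (N.map φ)ᵀ * (N.map φ)ᵀ = 0 := by
      rw [← Matrix.transpose_mul, hNφ, Matrix.transpose_zero]
    calc -(QM E * (PM E * (N.map φ)ᵀ * PM E) * QM E) * -(QM E * (PM E * (N.map φ)ᵀ * PM E) * QM E) =
        QM E * (PM E * (N.map φ)ᵀ * (PM E * (QM E * QM E) * PM E) * (N.map φ)ᵀ * PM E) * QM E := by
          simp only [neg_mul, mul_neg, neg_neg, mul_assoc]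
      _ = 0 := by
          rw [QM_sq, mul_one, PM_sq, mul_one, mul_assoc (PM E), h1]
          simp
  · have h1 : mt (sE φ x) = QM E * ((gU (H944.E6T.gm φ (x : GL I27 E)) : GL I27 E) : Matrix I27 I27 E) * QM E := rfl
    have h2 : ((H944.E6T.gm φ (x : GL I27 E) : GL I27 E) : Matrix I27 I27 E) = 1 + t ^ r • N.map φ := by
      rw [H944.E6T.coe_gm]
      change (mt x).map φ = _
      rw [h, ← hφ t]
      ext i j
      simp only [Matrix.map_apply, Matrix.add_apply, Matrix.smul_apply, smul_eq_mul, map_add, map_mul,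
        Matrix.one_apply, apply_ite φ, map_one, map_zero]
    have h3 : ((((H944.E6T.gm φ (x : GL I27 E))⁻¹ : GL I27 E)) : Matrix I27 I27 E) = 1 - t ^ r • N.map φ := by
      rw [Matrix.coe_units_inv, h2]
      refine Matrix.inv_eq_right_inv ?_
      rw [add_mul, one_mul, mul_sub, mul_one, smul_mul_smul_comm, hNφ, smul_zero]
      abel
    rw [h1, coe_gU, h3, Matrix.transpose_sub, Matrix.transpose_one, Matrix.transpose_smul]
    have h4 : PM E * (1 - t ^ r • (N.map φ)ᵀ) * PM E = 1 - t ^ r • (PM E * (N.map φ)ᵀ * PM E) := by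
      rw [mul_sub, sub_mul, mul_one, PM_sq, mul_smul_comm, smul_mul_assoc]
    rw [h4, mul_sub, sub_mul, mul_one, QM_sq, mul_smul_comm, smul_mul_assoc, smul_neg, sub_eq_add_neg]

end maps

end Cfsg.Agent.R2.H22.Root
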